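import Groth.Agent.Hensel.K144.Nbhd
import Groth.Agent.CalgB.EtaleNbhd

/-!
A map from a finitely presented algebra to the henselization of a pair factors through an étale
neighbourhood of the pair.
-/

set_option autoImplicit false

universe u

open TensorProduct

namespace K144.Factor

open Groth.Agent Groth.Agent.Etalg.PtEt Groth.Agent.Etalg.PtEtSystem Groth.Agent.Etalg.PtEtHens
  Groth.Agent.Etalg.PairHens

variable {A : Type u} [CommRing A] {I : Ideal A}

theorem of_injective (i : Idx A (A ⧸ I)) : Function.Injective (Hens.of i) := by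
  let _ := (Hens.of i).toRingHom.toAlgebra
  have := Groth.Agent.Etalg.PairHensNoeth.faithfullyFlat_of (A := A) (I := I) i
  exact FaithfulSMul.algebraMap_injective i.B (Hens A (A ⧸ I))

theorem exists_unitSub_mul {i : Idx A (A ⧸ I)} (x : i.R) (hx : ofR i x = 0) :
    ∃ s ∈ unitSub i.σ, s * x = 0 := by
  have h1 : algebraMap i.R i.B x = 0 := by
    apply of_injective i
    rw [map_zero]
    exact hx
  obtain ⟨s, hs⟩ := (IsLocalization.map_eq_zero_iff (unitSub i.σ) i.B x).1 h1
  exact ⟨s, s.2, hs⟩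

/-- Localizing the algebra of an index at an element which becomes a unit. -/
theorem exists_away (i : Idx A (A ⧸ I)) (s₀ : i.R) (hs₀ : s₀ ∈ unitSub i.σ) :
    ∃ (C : Type u) (_ : CommRing C) (_ : Algebra A C) (ι : i.R →ₐ[A] C) (σC : C →ₐ[A] A ⧸ I)
      (θ : C →ₐ[A] Hens A (A ⧸ I)), Algebra.Etale A C ∧
      (∀ x : i.R, s₀ * x = 0 → ι x = 0) ∧ (∀ x : i.R, θ (ι x) = ofR i x) ∧
      (Hens.τ A (A ⧸ I)).comp θ = σC := by
  have hunit : IsUnit (ofR i s₀) := by
    apply Hens.isUnit_of_τ
    rw [τ_ofR]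
    exact hs₀
  let θ : Localization.Away s₀ →ₐ[A] Hens A (A ⧸ I) :=
    IsLocalization.liftAlgHom (M := Submonoid.powers s₀)
    (f := ofR i) (fun y => by obtain ⟨_, n, rfl⟩ := y; simpa using hunit.pow n)
  refine ⟨Localization.Away s₀, inferInstance, inferInstance,
    IsScalarTower.toAlgHom A i.R (Localization.Away s₀), (Hens.τ A (A ⧸ I)).comp θ, θ,
    Algebra.Etale.comp A i.R (Localization.Away s₀), ?_, ?_, rfl⟩
  · intro x hx
    change algebraMap i.R (Localization.Away s₀) x = 0
    rw [IsLocalization.map_eq_zero_iff (Submonoid.powers s₀) (Localization.Away s₀)]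
    exact ⟨⟨s₀, Submonoid.mem_powers _⟩, hx⟩
  · intro r
    change (IsLocalization.lift _ (algebraMap i.R (Localization.Away s₀) r)) = _
    rw [IsLocalization.lift_eq]
    rfl

/-- A map from an étale algebra to a henselian pair `(B, IB)` with `B/IB = A/I` factors through an
étale neighbourhood. -/
theorem exists_nbhd_of_pointed {B : Type u} [CommRing B] [Algebra A B]
    (hB : HenselianRing B (I.map (algebraMap A B))) (τ : B →ₐ[A] A ⧸ I)
    (hτ : ∀ x, τ x = 0 → x ∈ I.map (algebraMap A B))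
    {C : Type u} [CommRing C] [Algebra A C] [Algebra.Etale A C] (θ : C →ₐ[A] B) :
    ∃ (A' : Type u) (_ : CommRing A') (_ : Algebra A A') (_ : Algebra.Etale A A'),
      Function.Bijective
        (Ideal.quotientMap (I.map (algebraMap A A')) (algebraMap A A') Ideal.le_comap_map) ∧
      ∃ (ψ : C →ₐ[A] A') (χ : A' →ₐ[A] B), χ.comp ψ = θ := by
  obtain ⟨A', _, _, hA', hbij, τ', hτ'⟩ :=
    Groth.Agent.CalgB.EtaleNbhd.exists_etale_nbhd (A := A) (C := C) I (τ.comp θ)
  have hbij' : Function.Bijective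
        (Ideal.quotientMap (I.map (algebraMap A A')) (algebraMap A A') Ideal.le_comap_map) := hbij
  obtain ⟨χ, -, -⟩ := K144.Nbhd.existsUnique_algHom (S := A') (C := B)
    (J := I.map (algebraMap A B)) le_rfl hbij'
  refine ⟨A', inferInstance, inferInstance, hA', hbij', τ', χ, ?_⟩
  refine Groth.Agent.Hensel.LocalEtale.algHom_eq_of_sub_mem_jacobson
    (I.map (algebraMap A B)) hB.jac _ _ fun c => ?_
  obtain ⟨a, ha⟩ := Ideal.Quotient.mk_surjective (τ (θ c))
  have h1 : τ' c - algebraMap A A' a ∈ I.map (algebraMap A A') := by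
    rw [← Ideal.Quotient.eq, hτ', AlgHom.comp_apply, ← ha]
    rfl
  have h2 : χ (τ' c - algebraMap A A' a) ∈ I.map (algebraMap A B) :=
    K144.Nbhd.map_le_of_algHom (I := I) (J := I.map (algebraMap A B)) le_rfl χ
      (Ideal.mem_map_of_mem (χ : A' →+* B) h1)
  have h3 : θ c - algebraMap A _ a ∈ I.map (algebraMap A B) := by
    apply hτ
    rw [map_sub, AlgHom.commutes, sub_eq_zero, ← ha]
    rfl
  rw [map_sub, AlgHom.commutes] at h2
  have := Ideal.sub_mem _ h2 h3
  rw [AlgHom.comp_apply]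
  convert this using 1
  ring

theorem exists_factor_Hens {P : Type u} [CommRing P] [Algebra A P] [Algebra.FinitePresentation A P]
    (φ : P →ₐ[A] Hens A (A ⧸ I)) :
    ∃ (A' : Type u) (_ : CommRing A') (_ : Algebra A A') (_ : Algebra.Etale A A'),
      Function.Bijective
        (Ideal.quotientMap (I.map (algebraMap A A')) (algebraMap A A') Ideal.le_comap_map) ∧
      ∃ (ψ : P →ₐ[A] A') (χ : A' →ₐ[A] Hens A (A ⧸ I)), χ.comp ψ = φ := by
  classical
  obtain ⟨n, f, hf, T, hT⟩ := Algebra.FinitePresentation.out (R := A) (A := P)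
  obtain ⟨i, hi⟩ := exists_ofR_finset (Finset.univ.image fun j : Fin n => φ (f (MvPolynomial.X j)))
  have hi' : ∀ j : Fin n, ∃ y : i.R, ofR i y = φ (f (MvPolynomial.X j)) := fun j =>
    hi _ (Finset.mem_image_of_mem _ (Finset.mem_univ j))
  choose y hy using hi'
  let g : MvPolynomial (Fin n) A →ₐ[A] i.R := MvPolynomial.aeval y
  have hg : (ofR i).comp g = φ.comp f := by
    ext j
    simp [g, hy]
  have hg' : ∀ t, f t = 0 → ofR i (g t) = 0 := by
    intro t ht
    have := congrArg (fun h : MvPolynomial (Fin n) A →ₐ[A] Hens A (A ⧸ I) => h t) hg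
    simp only [AlgHom.comp_apply] at this
    rw [this, ht, map_zero]
  have hTker : ∀ t ∈ T, f t = 0 := fun t ht => by
    have : t ∈ Ideal.span (T : Set (MvPolynomial (Fin n) A)) := Ideal.subset_span ht
    rw [hT] at this
    exact this
  choose s hs hs' using fun t : T => exists_unitSub_mul (g t) (hg' t (hTker t t.2))
  let s₀ : i.R := ∏ t : T, s t
  have hs₀ : s₀ ∈ unitSub i.σ := Submonoid.prod_mem _ fun t _ => hs t
  have hs₀' : ∀ t : T, s₀ * g t = 0 := by
    intro t
    obtain ⟨c, hc⟩ : s t ∣ s₀ := Finset.dvd_prod_of_mem s (Finset.mem_univ t)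
    rw [hc, mul_right_comm, hs', zero_mul]
  obtain ⟨C, _, _, ι, σC, θ, hC, hι, hθ, hστ⟩ := exists_away i s₀ hs₀
  -- the map `P → C`
  let gC : MvPolynomial (Fin n) A →ₐ[A] C := ι.comp g
  have hker : RingHom.ker f ≤ RingHom.ker gC := by
    change RingHom.ker f.toRingHom ≤ RingHom.ker gC
    rw [← hT, Ideal.span_le]
    intro t ht
    exact hι _ (hs₀' ⟨t, ht⟩)
  let ψ₀ : P →ₐ[A] C := AlgHom.liftOfSurjective f hf gC hker
  have hψ₀ : ψ₀.comp f = gC := AlgHom.liftOfSurjective_comp f hf gC hker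
  have hθψ : θ.comp ψ₀ = φ := by
    rw [← AlgHom.cancel_right hf]
    rw [AlgHom.comp_assoc, hψ₀, ← hg]
    apply AlgHom.ext
    intro x
    exact hθ (g x)
  obtain ⟨A', _, _, hA', hbij, ψ, χ, h⟩ := exists_nbhd_of_pointed
    (isPairHenselization_Hens A I).1 (Hens.τ A (A ⧸ I)) (fun x hx => by
      rw [← ker_Hens, RingHom.mem_ker]; exact hx) θ
  refine ⟨A', inferInstance, inferInstance, hA', hbij, ψ.comp ψ₀, χ, ?_⟩
  rw [← AlgHom.comp_assoc, h, hθψ]

/-- A map from a finitely presented algebra to a henselization factors through an étale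
neighbourhood. -/
theorem exists_factor {B : Type u} [CommRing B] [Algebra A B]
    (hB : Hens2.IsPairHenselization A I B)
    {P : Type u} [CommRing P] [Algebra A P] [Algebra.FinitePresentation A P] (φ : P →ₐ[A] B) :
    ∃ (A' : Type u) (_ : CommRing A') (_ : Algebra A A') (_ : Algebra.Etale A A'),
      Function.Bijective
        (Ideal.quotientMap (I.map (algebraMap A A')) (algebraMap A A') Ideal.le_comap_map) ∧
      ∃ (ψ : P →ₐ[A] A') (χ : A' →ₐ[A] B), χ.comp ψ = φ := by
  obtain ⟨e⟩ := Groth.Agent.Etalg.PairHens2.exists_equiv hB (isPairHenselization_Hens A I)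
  obtain ⟨A', _, _, hA', hbij, ψ, χ, h⟩ := exists_factor_Hens (e.toAlgHom.comp φ)
  refine ⟨A', inferInstance, inferInstance, hA', hbij, ψ, e.symm.toAlgHom.comp χ, ?_⟩
  rw [AlgHom.comp_assoc, h]
  ext x
  simp

end K144.Factor
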