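import Groth.Agent.S0385
import Groth.Agent.Hensel.LocalSplit
import Mathlib.AlgebraicGeometry.Morphisms.Finite
import Mathlib.AlgebraicGeometry.PullbackCarrier

/-!
The finite part of a quasi-finite separated scheme over a henselian local ring.
-/

set_option autoImplicit false

universe u

open CategoryTheory CategoryTheory.Limits AlgebraicGeometry

namespace K144.FinPart

/-- Key: a morphism over a local base out of a scheme with closed structure morphism lands in any open set
containing the closed fibre. -/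
theorem mem_of_isClosedMap {R : Type u} [CommRing R] [IsLocalRing R] {T Y : Scheme.{u}}
    (p : T ⟶ Spec (CommRingCat.of R)) (hp : IsClosedMap p.base) (g : T ⟶ Y)
    (f' : Y ⟶ Spec (CommRingCat.of R)) (hg : g ≫ f' = p) (W : Y.Opens)
    (hW : ∀ y : Y, f'.base y = IsLocalRing.closedPoint R → y ∈ W) (t : T) : g.base t ∈ W := by
  by_contra ht
  let Z : Set T := g.base ⁻¹' (W : Set Y)ᶜ
  have hZ : IsClosed Z := W.isOpen.isClosed_compl.preimage g.continuous
  have h1 : IsClosed (p.base '' Z) := hp Z hZ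
  have h2 : p.base t ∈ p.base '' Z := ⟨t, ht, rfl⟩
  have h3 : (p.base t : Spec (CommRingCat.of R)) ⤳ (IsLocalRing.closedPoint R : PrimeSpectrum R) :=
    IsLocalRing.specializes_closedPoint (R := R) (p.base t)
  obtain ⟨z, hz, hz'⟩ := h3.mem_closed h1 h2
  apply hz
  apply hW
  rw [← hz', ← hg]
  rfl

theorem functorial {R : Type u} [CommRing R] [IsLocalRing R]
    {X Y : Scheme.{u}} (f : X ⟶ Spec (CommRingCat.of R)) (f' : Y ⟶ Spec (CommRingCat.of R))
    (WX : X.Opens) (hfin : IsFinite (WX.ι ≫ f))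
    (WY : Y.Opens) (hWY : ∀ x : Y, f'.base x = IsLocalRing.closedPoint R → x ∈ WY)
    (g : X ⟶ Y) (hg : g ≫ f' = f) (x : X) (hx : x ∈ WX) :
    g.base x ∈ WY :=
  mem_of_isClosedMap (WX.ι ≫ f) (WX.ι ≫ f).isClosedMap (WX.ι ≫ g) f'
    (by rw [Category.assoc, hg]) WY hWY ⟨x, hx⟩

theorem pullback_iff {R : Type u} [CommRing R] [IsLocalRing R]
    {X Y : Scheme.{u}} (f : X ⟶ Spec (CommRingCat.of R)) (f' : Y ⟶ Spec (CommRingCat.of R))
    (WX : X.Opens) (hX : IsFinite (WX.ι ≫ f))
    (hWX : ∀ x : X, f.base x = IsLocalRing.closedPoint R → x ∈ WX)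
    (WY : Y.Opens) (hY : IsFinite (WY.ι ≫ f'))
    (hWY : ∀ x : Y, f'.base x = IsLocalRing.closedPoint R → x ∈ WY)
    (W : (pullback f f').Opens)
    (hW : IsFinite (W.ι ≫ (pullback.fst f f' ≫ f)))
    (hWW : ∀ x : ↥(pullback f f'),
      (pullback.fst f f' ≫ f).base x = IsLocalRing.closedPoint R → x ∈ W)
    (z : ↥(pullback f f')) :
    z ∈ W ↔ ((pullback.fst f f').base z ∈ WX ∧ (pullback.snd f f').base z ∈ WY) := by
  constructor
  · intro hz
    refine ⟨functorial (pullback.fst f f' ≫ f) f W hW WX hWX (pullback.fst f f') rfl z hz,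
      functorial (pullback.fst f f' ≫ f) f' W hW WY hWY (pullback.snd f f')
        pullback.condition.symm z hz⟩
  · rintro ⟨h1, h2⟩
    let V : (pullback f f').Opens := (pullback.fst f f') ⁻¹ᵁ WX ⊓ (pullback.snd f f') ⁻¹ᵁ WY
    have hzV : z ∈ V := ⟨h1, h2⟩
    have ha : Set.range (V.ι ≫ pullback.fst f f') ⊆ Set.range WX.ι := by
      rintro _ ⟨y, rfl⟩
      rw [Scheme.Opens.range_ι]
      exact y.2.1
    have hb : Set.range (V.ι ≫ pullback.snd f f') ⊆ Set.range WY.ι := by
      rintro _ ⟨y, rfl⟩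
      rw [Scheme.Opens.range_ι]
      exact y.2.2
    let a : (V : Scheme.{u}) ⟶ (WX : Scheme.{u}) := IsOpenImmersion.lift WX.ι _ ha
    let b : (V : Scheme.{u}) ⟶ (WY : Scheme.{u}) := IsOpenImmersion.lift WY.ι _ hb
    have haf : a ≫ WX.ι = V.ι ≫ pullback.fst f f' := IsOpenImmersion.lift_fac _ _ _
    have hbf : b ≫ WY.ι = V.ι ≫ pullback.snd f f' := IsOpenImmersion.lift_fac _ _ _
    let T := pullback (WX.ι ≫ f) (WY.ι ≫ f')
    let v : (V : Scheme.{u}) ⟶ T := pullback.lift a b (by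
      rw [← Category.assoc, ← Category.assoc, haf, hbf, Category.assoc, Category.assoc,
        pullback.condition])
    let g : T ⟶ pullback f f' := pullback.lift (pullback.fst _ _ ≫ WX.ι) (pullback.snd _ _ ≫ WY.ι)
      (by rw [Category.assoc, Category.assoc, pullback.condition])
    have hvg : v ≫ g = V.ι := by
      apply pullback.hom_ext
      · rw [Category.assoc, pullback.lift_fst, ← Category.assoc, pullback.lift_fst, haf]
      · rw [Category.assoc, pullback.lift_snd, ← Category.assoc, pullback.lift_snd, hbf]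
    have hT : IsFinite (pullback.fst (WX.ι ≫ f) (WY.ι ≫ f') ≫ (WX.ι ≫ f)) := inferInstance
    have hg : g ≫ (pullback.fst f f' ≫ f) = pullback.fst (WX.ι ≫ f) (WY.ι ≫ f') ≫ (WX.ι ≫ f) := by
      rw [← Category.assoc, pullback.lift_fst, Category.assoc]
    have h3 := mem_of_isClosedMap (pullback.fst (WX.ι ≫ f) (WY.ι ≫ f') ≫ (WX.ι ≫ f))
      (pullback.fst (WX.ι ≫ f) (WY.ι ≫ f') ≫ (WX.ι ≫ f)).isClosedMap g
      (pullback.fst f f' ≫ f) hg W hWW (v.base ⟨z, hzV⟩)
    have h4 : g.base (v.base ⟨z, hzV⟩) = z := by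
      change (v ≫ g).base ⟨z, hzV⟩ = z
      rw [hvg]
      rfl
    rwa [h4] at h3

end K144.FinPart
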