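import Groth.Agent.Hensel.K144.Lift

/-!
The étale case: henselian finitely presented maps with étale truncations.
-/

set_option autoImplicit false

universe u

open TensorProduct

namespace K144.Approx

theorem exists_etale_approx (A : Type u) [CommRing A] (I : Ideal A)
    (R₀ : Type u) [CommRing R₀] [Algebra A R₀] [Algebra.FinitePresentation A R₀]
    (B : Type u) [CommRing B] [Algebra R₀ B] [Algebra A B] [IsScalarTower A R₀ B]
    (hB : Hens2.IsPairHenselization R₀ (I.map (algebraMap A R₀)) B)
    (het : ∀ r : ℕ, 1 ≤ r → Algebra.Etale (A ⧸ I ^ r) (B ⧸ (I ^ r).map (algebraMap A B))) :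
    ∃ (R : Type u) (_ : CommRing R) (_ : Algebra A R) (H : Type u) (_ : CommRing H) (_ : Algebra R H)
      (_ : Algebra A H) (_ : IsScalarTower A R H),
      Algebra.Etale A R ∧ Hens2.IsPairHenselization R (I.map (algebraMap A R)) H ∧
      ∃ φ : H →ₐ[A] B, Function.Surjective φ ∧ (RingHom.ker φ).FG ∧
        ∀ n : ℕ, RingHom.ker φ ≤ (I ^ n).map (algebraMap A H) := by
  have het1 := het 1 le_rfl
  rw [pow_one] at het1
  have hst : IsScalarTower A (A ⧸ I) (B ⧸ I.map (algebraMap A B)) :=
    IsScalarTower.of_algebraMap_eq fun _ => rfl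
  obtain ⟨R, _, _, hR, σ, hσs, hσk⟩ := K144.Lift.exists_etale_lift I (B ⧸ I.map (algebraMap A B))
  have hsm : ∀ r : ℕ, 1 ≤ r →
      Algebra.FormallySmooth (A ⧸ I ^ r) (B ⧸ (I ^ r).map (algebraMap A B)) := fun r hr =>
    have := het r hr
    inferInstance
  obtain ⟨H, _, _, _, _, hH, φ, h1, h2, h3⟩ := K144.Lift.exists_of_smooth hB σ hσs hσk hsm
  exact ⟨R, inferInstance, inferInstance, H, inferInstance, inferInstance, inferInstance,
    inferInstance, hR, hH, φ, h1, h2, h3⟩

/-- If moreover `B` is flat over `A`, then `H → B` is an isomorphism. -/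
theorem exists_algebra_of_flat {A : Type u} [CommRing A] {I : Ideal A}
    {B : Type u} [CommRing B] [Algebra A B] [Module.Flat A B]
    {R : Type u} [CommRing R] [Algebra A R] {H : Type u} [CommRing H] [Algebra R H]
    [Algebra A H] [IsScalarTower A R H]
    (hH : Hens2.IsPairHenselization R (I.map (algebraMap A R)) H)
    (φ : H →ₐ[A] B) (hs : Function.Surjective φ) (hfg : (RingHom.ker φ).FG)
    (hker : RingHom.ker φ ≤ I.map (algebraMap A H)) :
    ∃ (_ : Algebra R B) (_ : IsScalarTower A R B),
      Hens2.IsPairHenselization R (I.map (algebraMap A R)) B := by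
  have hmapH : (I.map (algebraMap A R)).map (algebraMap R H) = I.map (algebraMap A H) := by
    rw [Ideal.map_map, ← IsScalarTower.algebraMap_eq]
  have hjac : I.map (algebraMap A H) ≤ Ideal.jacobson ⊥ := by
    rw [← hmapH]
    exact hH.1.jac
  have hbot := K144.Trunc.ker_eq_bot_of_flat φ hs I hker hfg hjac
  have hinj : Function.Injective φ := (RingHom.injective_iff_ker_eq_bot φ).2 hbot
  let _ : Algebra R B := ((φ : H →+* B).comp (algebraMap R H)).toAlgebra
  have st : IsScalarTower A R B := IsScalarTower.of_algebraMap_eq fun a => by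
    change algebraMap A B a = φ (algebraMap R H (algebraMap A R a))
    rw [← IsScalarTower.algebraMap_apply A R H, φ.commutes]
  refine ⟨inferInstance, st, ?_⟩
  let e : H ≃ₐ[R] B := AlgEquiv.ofBijective { (φ : H →+* B) with commutes' := fun r => rfl }
    ⟨hinj, hs⟩
  exact Groth.Agent.Etalg.PairHens2.of_equiv hH e

end K144.Approx
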