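import Groth.Agent.Hensel.K144.Lift

/-!
The smooth case: henselian finitely presented maps with smooth truncations, given that smooth algebras over
`A/I` lift to smooth algebras over `A`.
-/

set_option autoImplicit false

universe u

open TensorProduct

namespace K144.ApproxSm

theorem exists_smooth_approx (A : Type u) [CommRing A] (I : Ideal A)
    (hlift : ∀ (C : Type u) [CommRing C] [Algebra (A ⧸ I) C] [Algebra.Smooth (A ⧸ I) C],
      ∃ (R : Type u) (_ : CommRing R) (_ : Algebra A R), Algebra.Smooth A R ∧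
        Nonempty ((R ⧸ I.map (algebraMap A R)) ≃ₐ[A ⧸ I] C))
    (R₀ : Type u) [CommRing R₀] [Algebra A R₀] [Algebra.FinitePresentation A R₀]
    (B : Type u) [CommRing B] [Algebra R₀ B] [Algebra A B] [IsScalarTower A R₀ B]
    (hB : Hens2.IsPairHenselization R₀ (I.map (algebraMap A R₀)) B)
    (het : ∀ r : ℕ, 1 ≤ r → Algebra.Smooth (A ⧸ I ^ r) (B ⧸ (I ^ r).map (algebraMap A B))) :
    ∃ (R : Type u) (_ : CommRing R) (_ : Algebra A R) (H : Type u) (_ : CommRing H) (_ : Algebra R H)
      (_ : Algebra A H) (_ : IsScalarTower A R H),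
      Algebra.Smooth A R ∧ Hens2.IsPairHenselization R (I.map (algebraMap A R)) H ∧
      ∃ φ : H →ₐ[A] B, Function.Surjective φ ∧ (RingHom.ker φ).FG ∧
        ∀ n : ℕ, RingHom.ker φ ≤ (I ^ n).map (algebraMap A H) := by
  have het1 := het 1 le_rfl
  rw [pow_one] at het1
  obtain ⟨R, _, _, hR, ⟨f⟩⟩ := hlift (B ⧸ I.map (algebraMap A B))
  have hst : IsScalarTower A (A ⧸ I) (B ⧸ I.map (algebraMap A B)) :=
    IsScalarTower.of_algebraMap_eq fun _ => rfl
  let σ : R →ₐ[A] B ⧸ I.map (algebraMap A B) :=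
    (f.toAlgHom.restrictScalars A).comp (Ideal.Quotient.mkₐ A _)
  have hσ : ∀ x, σ x = f (Ideal.Quotient.mk _ x) := fun x => rfl
  have hσs : Function.Surjective σ := by
    intro y
    obtain ⟨x, hx⟩ := Ideal.Quotient.mk_surjective (f.symm y)
    exact ⟨x, by rw [hσ, hx, AlgEquiv.apply_symm_apply]⟩
  have hσk : ∀ x, σ x = 0 → x ∈ I.map (algebraMap A R) := by
    intro x hx
    rw [hσ] at hx
    rw [← Ideal.Quotient.eq_zero_iff_mem]
    exact f.injective (by rw [hx, map_zero])
  have hsm : ∀ r : ℕ, 1 ≤ r →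
      Algebra.FormallySmooth (A ⧸ I ^ r) (B ⧸ (I ^ r).map (algebraMap A B)) := fun r hr =>
    have := het r hr
    inferInstance
  obtain ⟨H, _, _, _, _, hH, φ, h1, h2, h3⟩ := K144.Lift.exists_of_smooth hB σ hσs hσk hsm
  exact ⟨R, inferInstance, inferInstance, H, inferInstance, inferInstance, inferInstance,
    inferInstance, hR, hH, φ, h1, h2, h3⟩

end K144.ApproxSm
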