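import Mathlib
import Groth.Prelude.Def_Hensel
import Groth.Agent.S0547
import Groth.Agent.CurvesB.EtaleCompl
import Groth.Agent.Proet.WEtale2
import Groth.Agent.Flat2G.StrictHens
import Groth.Agent.Hensel.EtaleNbhd
import Groth.Agent.Pi1.H409.QuotTower
import Groth.Agent.Ega4A.FlatDim

/-!
# One-dimensional components and punctured spectra

If the punctured spectrum of a Noetherian local ring `D` is preconnected and `D` has a one-dimensional
irreducible component, then `dim D = 1`.
-/

set_option autoImplicit false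
universe u

namespace K144.ComplGen

open IsLocalRing PrimeSpectrum

/-- The punctured spectrum is preconnected. -/
def PunctConn (D : Type u) [CommRing D] [IsLocalRing D] : Prop :=
  IsPreconnected ({closedPoint D}ᶜ : Set (PrimeSpectrum D))

theorem punctConn_of_ringEquiv {D D' : Type u} [CommRing D] [IsLocalRing D] [CommRing D']
    [IsLocalRing D'] (e : D ≃+* D') (h : PunctConn D) : PunctConn D' := by
  let f := PrimeSpectrum.homeomorphOfRingEquiv e
  have h1 : IsPreconnected (f '' ({closedPoint D}ᶜ)) := h.image f f.continuous.continuousOn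
  have h2 : f (closedPoint D) = closedPoint D' := by
    have : IsLocalHom (e.symm : D' →+* D) := inferInstance
    exact comap_closedPoint (e.symm : D' →+* D)
  rw [Set.image_compl_eq f.bijective, Set.image_singleton, h2] at h1
  exact h1

theorem punctConn_of_isDomain (D : Type u) [CommRing D] [IsLocalRing D] [IsDomain D] :
    PunctConn D := by
  have h1 : IsPreirreducible (Set.univ : Set (PrimeSpectrum D)) :=
    PreirreducibleSpace.isPreirreducible_univ
  exact (h1.open_subset (isClosed_singleton_closedPoint D).isOpen_compl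
    (Set.subset_univ _)).isPreconnected

/-- The primes above a prime `Q` with `dim D/Q = 1` are `Q` and the maximal ideal. -/
theorem eq_or_eq_of_le {D : Type u} [CommRing D] [IsLocalRing D] (Q : Ideal D) [Q.IsPrime]
    (hQ : ringKrullDim (D ⧸ Q) = 1) (x : Ideal D) [x.IsPrime] (hx : Q ≤ x) :
    x = Q ∨ x = maximalIdeal D := by
  have h1 : Ring.KrullDimLE 1 (D ⧸ Q) := by
    rw [Ring.krullDimLE_iff, hQ]; rfl
  have hx' : (x.map (Ideal.Quotient.mk Q)).IsPrime :=
    Ideal.map_isPrime_of_surjective Ideal.Quotient.mk_surjective (by rwa [Ideal.mk_ker])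
  have hcm : (x.map (Ideal.Quotient.mk Q)).comap (Ideal.Quotient.mk Q) = x := by
    rw [Ideal.comap_map_of_surjective _ Ideal.Quotient.mk_surjective, ← RingHom.ker_eq_comap_bot,
      Ideal.mk_ker, sup_eq_left.2 hx]
  rcases (Ring.krullDimLE_one_iff.1 h1) _ hx' with h | h
  · left
    rw [IsDomain.minimalPrimes_eq_singleton_bot, Set.mem_singleton_iff] at h
    rw [← hcm, h, ← RingHom.ker_eq_comap_bot, Ideal.mk_ker]
  · right
    have := Ideal.comap_isMaximal_of_surjective (Ideal.Quotient.mk Q)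
      Ideal.Quotient.mk_surjective (K := x.map (Ideal.Quotient.mk Q))
    rw [hcm] at this
    exact eq_maximalIdeal this

/-- If the punctured spectrum is preconnected and there is a one-dimensional component, the ring has
dimension one. -/
theorem ringKrullDim_eq_one {D : Type u} [CommRing D] [IsLocalRing D] [IsNoetherianRing D]
    (h : PunctConn D) (Q : Ideal D) (hQm : Q ∈ minimalPrimes D)
    (hQ : ringKrullDim (D ⧸ Q) = 1) : ringKrullDim D = 1 := by
  have hQp : Q.IsPrime := hQm.1.1
  have hQne : Q ≠ maximalIdeal D := by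
    rintro rfl
    have h1 : ringKrullDim (D ⧸ maximalIdeal D) = 0 :=
      ringKrullDim_eq_zero_of_isField ((Ideal.Quotient.maximal_ideal_iff_isField_quotient _).1
        inferInstance)
    rw [h1] at hQ
    exact zero_ne_one hQ
  have hfin : (minimalPrimes D).Finite := minimalPrimes.finite_of_isNoetherianRing D
  let W : Set (PrimeSpectrum D) := ⋂ P ∈ (minimalPrimes D \ {Q}), (zeroLocus (P : Set D))ᶜ
  have hW : IsOpen W := (hfin.subset Set.sdiff_subset).isOpen_biInter
    fun P _ => (isClosed_zeroLocus _).isOpen_compl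
  have hWQ : ∀ x ∈ W, Q ≤ x.asIdeal := by
    intro x hx
    obtain ⟨P, hP, hPx⟩ := Ideal.exists_minimalPrimes_le (bot_le : (⊥ : Ideal D) ≤ x.asIdeal)
    by_contra hne
    have hPQ : P ≠ Q := by
      rintro rfl
      exact hne hPx
    have h1 := Set.mem_iInter₂.1 hx P ⟨hP, hPQ⟩
    exact h1 hPx
  have hQW : (⟨Q, hQp⟩ : PrimeSpectrum D) ∈ W := by
    refine Set.mem_iInter₂.2 fun P hP hmem => ?_
    have h1 : P ≤ Q := hmem
    exact hP.2 (le_antisymm h1 (hQm.2 ⟨hP.1.1.1, bot_le⟩ h1))
  let v : Set (PrimeSpectrum D) := (zeroLocus (Q : Set D))ᶜ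
  have hv : IsOpen v := (isClosed_zeroLocus _).isOpen_compl
  have hcov : ({closedPoint D}ᶜ : Set (PrimeSpectrum D)) ⊆ W ∪ v := by
    intro x hx
    by_cases hxQ : x ∈ v
    · exact Or.inr hxQ
    · left
      have h1 : Q ≤ x.asIdeal := not_not.1 hxQ
      have h2 : x.asIdeal = Q := by
        rcases eq_or_eq_of_le Q hQ x.asIdeal h1 with h2 | h2
        · exact h2
        · exact absurd (PrimeSpectrum.ext h2) hx
      have h3 : x = ⟨Q, hQp⟩ := PrimeSpectrum.ext h2
      rw [h3]
      exact hQW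
  have hempty : ¬ (({closedPoint D}ᶜ : Set (PrimeSpectrum D)) ∩ v).Nonempty := by
    intro hne
    obtain ⟨x, -, hx1, hx2⟩ := h W v hW hv hcov
      ⟨⟨Q, hQp⟩, fun h0 => hQne (congrArg PrimeSpectrum.asIdeal h0), hQW⟩ hne
    exact hx2 (hWQ x hx1)
  have hall : ∀ x : PrimeSpectrum D, Q ≤ x.asIdeal := by
    intro x
    by_cases hx : x = closedPoint D
    · rw [hx]
      exact le_maximalIdeal hQp.ne_top
    · by_contra hne
      exact hempty ⟨x, hx, hne⟩
  rw [← hQ, ringKrullDim_quotient, ringKrullDim]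
  have huniv : zeroLocus (Q : Set D) = Set.univ := Set.eq_univ_of_forall hall
  rw [huniv]
  exact (Order.krullDim_eq_of_orderIso OrderIso.Set.univ).symm

theorem isHenselization_self (A : Type u) [CommRing A] [HenselianLocalRing A] :
    Hensel.IsHenselization A A where
  henselian := inferInstance
  universal := by
    intro T _ _ f _
    refine ⟨f, by ext; rfl, fun g hg => ?_⟩
    rw [← hg]
    ext; rfl

/-- The statement of S9279. -/
def ComplConn : Prop := ∀ (A S : Type u) [CommRing A] [IsLocalRing A] [IsNoetherianRing A]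
  [CommRing S] [IsLocalRing S] [Algebra A S] [IsLocalHom (algebraMap A S)]
  [Hensel.IsHenselization A S],
    PunctConn (AdicCompletion (maximalIdeal A) A) ↔ PunctConn S

section Pair

variable {D D' : Type u} [CommRing D] [IsLocalRing D] [IsNoetherianRing D] [CommRing D']
  [IsLocalRing D'] [IsNoetherianRing D'] [Algebra D D'] [IsLocalHom (algebraMap D D')]
  [Module.Flat D D']

theorem ringKrullDim_eq (hm : (maximalIdeal D).map (algebraMap D D') = maximalIdeal D')
    (hres : ∀ b : D', ∃ a : D, b - algebraMap D D' a ∈ maximalIdeal D') :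
    ringKrullDim D' = ringKrullDim D := by
  obtain ⟨e, -⟩ := Groth.Agent.CurvesB.EtaleCompl.exists_completion_ringEquiv_of_flat hm hres
  rw [← Groth.Agent.S0547.result D, ← Groth.Agent.S0547.result D']
  exact (ringKrullDim_eq_of_ringEquiv e).symm

theorem punctConn_of_henselian (H : ComplConn.{u}) [HenselianLocalRing D] [HenselianLocalRing D']
    (hm : (maximalIdeal D).map (algebraMap D D') = maximalIdeal D')
    (hres : ∀ b : D', ∃ a : D, b - algebraMap D D' a ∈ maximalIdeal D')
    (h : PunctConn D) : PunctConn D' := by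
  obtain ⟨e, -⟩ := Groth.Agent.CurvesB.EtaleCompl.exists_completion_ringEquiv_of_flat hm hres
  have := isHenselization_self D
  have := isHenselization_self D'
  have h1 := (H D D).2 h
  exact (H D' D').1 (punctConn_of_ringEquiv e h1)

end Pair

section Transfer

variable {S T : Type u} [CommRing S] [CommRing T] [Algebra S T] [Module.Flat S T]

theorem comap_mem_minimalPrimes (I : Ideal S) (Q : Ideal T)
    (hQ : Q ∈ (I.map (algebraMap S T)).minimalPrimes) :
    Q.comap (algebraMap S T) ∈ I.minimalPrimes := by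
  have hQp : Q.IsPrime := hQ.1.1
  have hle : I ≤ Q.comap (algebraMap S T) := Ideal.map_le_iff_le_comap.1 hQ.1.2
  obtain ⟨P, hP, hPle⟩ := Ideal.exists_minimalPrimes_le hle
  have hPp : P.IsPrime := hP.1.1
  rcases eq_or_lt_of_le hPle with h | h
  · rwa [← h]
  · exfalso
    have hlt : P < Q.under S := h
    obtain ⟨Q', hQ'lt, hQ'p, hQ'o⟩ := Ideal.exists_ideal_lt_liesOver_of_lt Q hlt
    have h1 : I.map (algebraMap S T) ≤ Q' := by
      rw [Ideal.map_le_iff_le_comap]
      exact hP.1.2.trans hQ'o.over.le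
    exact absurd (hQ.2 ⟨hQ'p, h1⟩ hQ'lt.le) (not_le_of_gt hQ'lt)

theorem mem_minimalPrimes_map (I : Ideal S) (P : Ideal S) (hP : P ∈ I.minimalPrimes) (Q : Ideal T)
    (hQ : Q ∈ (P.map (algebraMap S T)).minimalPrimes) :
    Q ∈ (I.map (algebraMap S T)).minimalPrimes := by
  have hPp : P.IsPrime := hP.1.1
  have hc : Q.comap (algebraMap S T) ∈ P.minimalPrimes := comap_mem_minimalPrimes P Q hQ
  have hc' : Q.comap (algebraMap S T) = P := by
    rwa [Ideal.minimalPrimes_eq_subsingleton_self, Set.mem_singleton_iff] at hc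
  refine ⟨⟨hQ.1.1, (Ideal.map_mono hP.1.2).trans hQ.1.2⟩, fun Q' hQ' hle => ?_⟩
  have hQ'p : Q'.IsPrime := hQ'.1
  have h1 : Q'.comap (algebraMap S T) ≤ P := (Ideal.comap_mono hle).trans hc'.le
  have h2 : P ≤ Q'.comap (algebraMap S T) :=
    hP.2 ⟨inferInstance, Ideal.map_le_iff_le_comap.1 hQ'.2⟩ h1
  exact hQ.2 ⟨hQ'p, Ideal.map_le_iff_le_comap.2 h2⟩ hle

theorem one_le_ringKrullDim_quotient [IsLocalRing T] (Q : Ideal T) [Q.IsPrime]
    (hQ : Q ≠ maximalIdeal T) : 1 ≤ ringKrullDim (T ⧸ Q) := by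
  rw [← not_lt]
  intro h
  have h1 : ringKrullDim (T ⧸ Q) ≤ 0 := by
    have h2 : ringKrullDim (T ⧸ Q) < ((0 : ℕ) : WithBot ℕ∞) + 1 := by simpa using h
    simpa using ENat.WithBot.lt_add_one_iff.1 h2
  have h3 : Ring.KrullDimLE 0 (T ⧸ Q) := by
    rw [Ring.krullDimLE_iff]
    exact h1
  have h4 : IsField (T ⧸ Q) := Ring.KrullDimLE.isField_of_isDomain
  exact hQ (eq_maximalIdeal ((Ideal.Quotient.maximal_ideal_iff_isField_quotient Q).2 h4))

variable [IsNoetherianRing S] [HenselianLocalRing S] [IsNoetherianRing T] [HenselianLocalRing T]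
  [IsLocalHom (algebraMap S T)]

/-- The quotient situation `S/P → T/PT`. -/
theorem quot_pair (hm : (maximalIdeal S).map (algebraMap S T) = maximalIdeal T)
    (hres : ∀ b : T, ∃ a : S, b - algebraMap S T a ∈ maximalIdeal T) (P : Ideal S) [P.IsPrime]
    [HenselianLocalRing (S ⧸ P)] [HenselianLocalRing (T ⧸ P.map (algebraMap S T))] :
    ∃ _ : IsLocalHom (algebraMap (S ⧸ P) (T ⧸ P.map (algebraMap S T))),
    (maximalIdeal (S ⧸ P)).map (algebraMap (S ⧸ P) (T ⧸ P.map (algebraMap S T))) =
      maximalIdeal (T ⧸ P.map (algebraMap S T)) ∧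
    (∀ b : T ⧸ P.map (algebraMap S T), ∃ a : S ⧸ P,
      b - algebraMap (S ⧸ P) (T ⧸ P.map (algebraMap S T)) a ∈
        maximalIdeal (T ⧸ P.map (algebraMap S T))) := by
  have hcomp : (algebraMap (S ⧸ P) (T ⧸ P.map (algebraMap S T))).comp (Ideal.Quotient.mk P) =
      (Ideal.Quotient.mk (P.map (algebraMap S T))).comp (algebraMap S T) := rfl
  have h1 : (maximalIdeal (S ⧸ P)).map (algebraMap (S ⧸ P) (T ⧸ P.map (algebraMap S T))) =
      maximalIdeal (T ⧸ P.map (algebraMap S T)) := by
    rw [← Groth.Agent.Ega4A.FlatDim.map_maximalIdeal_quotient, Ideal.map_map, hcomp,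
      ← Ideal.map_map, hm, Groth.Agent.Ega4A.FlatDim.map_maximalIdeal_quotient]
  refine ⟨?_, h1, ?_⟩
  · exact ((local_hom_TFAE (algebraMap (S ⧸ P) (T ⧸ P.map (algebraMap S T)))).out 0 2 rfl rfl).mpr
      h1.le
  · intro b
    obtain ⟨b, rfl⟩ := Ideal.Quotient.mk_surjective b
    obtain ⟨a, ha⟩ := hres b
    refine ⟨Ideal.Quotient.mk P a, ?_⟩
    rw [← Groth.Agent.Ega4A.FlatDim.map_maximalIdeal_quotient]
    exact Ideal.mem_map_of_mem (Ideal.Quotient.mk (P.map (algebraMap S T))) ha

theorem exists_iff (H : ComplConn.{u})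
    (hm : (maximalIdeal S).map (algebraMap S T) = maximalIdeal T)
    (hres : ∀ b : T, ∃ a : S, b - algebraMap S T a ∈ maximalIdeal T) (I : Ideal S) :
    (∃ P ∈ I.minimalPrimes, ringKrullDim (S ⧸ P) = 1) ↔
      (∃ Q ∈ (I.map (algebraMap S T)).minimalPrimes, ringKrullDim (T ⧸ Q) = 1) := by
  have key : ∀ (P : Ideal S) [P.IsPrime], P.map (algebraMap S T) ≤ maximalIdeal T := by
    intro P hP
    rw [← hm]
    exact Ideal.map_mono (le_maximalIdeal hP.ne_top)
  have key2 : ∀ (P : Ideal S) [P.IsPrime], HenselianLocalRing (S ⧸ P) := fun P hP =>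
    Groth.Agent.Pi1.H409.QuotTower.henselianLocalRing_quotient S P hP.ne_top
  have key3 : ∀ (P : Ideal S) [P.IsPrime], HenselianLocalRing (T ⧸ P.map (algebraMap S T)) :=
    fun P hP => Groth.Agent.Pi1.H409.QuotTower.henselianLocalRing_quotient T _
      (fun h => (maximalIdeal.isMaximal T).ne_top (top_le_iff.1 (h ▸ key P)))
  have key4 : ∀ (P : Ideal S) [P.IsPrime], Module.Flat (S ⧸ P) (T ⧸ P.map (algebraMap S T)) :=
    fun P hP => Module.Flat.of_linearEquiv
      (Algebra.TensorProduct.quotIdealMapEquivQuotTensor T P).toLinearEquiv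
  constructor
  · rintro ⟨P, hP, hdim⟩
    have hPp : P.IsPrime := hP.1.1
    have := key2 P
    have := key3 P
    have := key4 P
    obtain ⟨_, hm', hres'⟩ := quot_pair (T := T) hm hres P
    have hdim' : ringKrullDim (T ⧸ P.map (algebraMap S T)) = 1 := by
      rw [ringKrullDim_eq hm' hres', hdim]
    obtain ⟨Q, hQ, -⟩ := Ideal.exists_minimalPrimes_le (key P)
    have hQp : Q.IsPrime := hQ.1.1
    refine ⟨Q, mem_minimalPrimes_map I P hP Q hQ, le_antisymm ?_ ?_⟩
    · rw [← hdim']
      exact ringKrullDim_le_of_surjective (Ideal.Quotient.factor hQ.1.2)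
        (Ideal.Quotient.factor_surjective hQ.1.2)
    · refine one_le_ringKrullDim_quotient Q ?_
      rintro rfl
      have hc : (maximalIdeal T).comap (algebraMap S T) ∈ P.minimalPrimes :=
        comap_mem_minimalPrimes P _ hQ
      rw [Ideal.minimalPrimes_eq_subsingleton_self, Set.mem_singleton_iff,
        ((local_hom_TFAE (algebraMap S T)).out 0 4 rfl rfl).mp inferInstance] at hc
      subst hc
      have h1 : ringKrullDim (S ⧸ maximalIdeal S) = 0 :=
        ringKrullDim_eq_zero_of_isField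
          ((Ideal.Quotient.maximal_ideal_iff_isField_quotient _).1 inferInstance)
      rw [h1] at hdim
      exact zero_ne_one hdim
  · rintro ⟨Q, hQ, hdim⟩
    have hQp : Q.IsPrime := hQ.1.1
    have hP := comap_mem_minimalPrimes I Q hQ
    obtain ⟨P, hPdef⟩ : ∃ P, P = Q.comap (algebraMap S T) := ⟨_, rfl⟩
    rw [← hPdef] at hP
    have hPp : P.IsPrime := hP.1.1
    refine ⟨P, hP, ?_⟩
    have := key2 P
    have := key3 P
    have := key4 P
    obtain ⟨_, hm', hres'⟩ := quot_pair (T := T) hm hres P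
    have hPQ : P.map (algebraMap S T) ≤ Q := hPdef ▸ Ideal.map_comap_le
    have hQ2 : Q ∈ (P.map (algebraMap S T)).minimalPrimes :=
      ⟨⟨hQp, hPQ⟩, fun Q' hQ' hle => hQ.2 ⟨hQ'.1, (Ideal.map_mono hP.1.2).trans hQ'.2⟩ hle⟩
    rw [Ideal.minimalPrimes_eq_comap] at hQ2
    obtain ⟨Q', hQ', hQ'Q⟩ := hQ2
    have hdimQ' : ringKrullDim ((T ⧸ P.map (algebraMap S T)) ⧸ Q') = 1 := by
      rw [← hdim]
      subst hQ'Q
      let f : T →+* (T ⧸ P.map (algebraMap S T)) ⧸ Q' :=
        (Ideal.Quotient.mk Q').comp (Ideal.Quotient.mk _)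
      have hf : Function.Surjective f :=
        Ideal.Quotient.mk_surjective.comp Ideal.Quotient.mk_surjective
      have hk : RingHom.ker f = Q'.comap (Ideal.Quotient.mk (P.map (algebraMap S T))) := by
        rw [RingHom.ker_eq_comap_bot, ← Ideal.comap_comap, ← RingHom.ker_eq_comap_bot,
          Ideal.mk_ker]
      exact (ringKrullDim_eq_of_ringEquiv ((Ideal.quotEquivOfEq hk.symm).trans
        (RingHom.quotientKerEquivOfSurjective hf))).symm
    have h1 : PunctConn (T ⧸ P.map (algebraMap S T)) :=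
      punctConn_of_henselian H hm' hres' (punctConn_of_isDomain _)
    have h2 := ringKrullDim_eq_one h1 Q' hQ' hdimQ'
    rw [← h2, ringKrullDim_eq hm' hres']

end Transfer

end K144.ComplGen
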