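import Mathlib

/-!
# Extending an equivariant homomorphism to a crossed homomorphism

`H` acts on a field `k` of characteristic `p` in which every `y ^ p - y = x` is solvable. Given a
normal subgroup `P` (the kernel of `π : H → Q`, `Q` finite), an `𝔽_p[H/P]`-module `A`, an
equivariant homomorphism `f : P → A` and `t ∈ k` fixed by `P` of trace one, there is a crossed
homomorphism `a : H → A` with `a p = f p` for all `p ∈ P` fixing a certain finite subset of `k`.
(The vanishing of `H²(Gal, A)` in characteristic `p`.)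
-/

set_option autoImplicit false
universe u v w z

open TensorProduct

namespace K144.CrossP

section Frob

variable (p : ℕ) [Fact p.Prime] (k : Type u) [Field k] [CharP k p]
  (A : Type v) [AddCommGroup A] [Module (ZMod p) A]

attribute [local instance] ZMod.algebra

/-- `x ⊗ a ↦ x ^ p ⊗ a`. -/
noncomputable def Fr : (k ⊗[ZMod p] A) →ₗ[ZMod p] (k ⊗[ZMod p] A) :=
  TensorProduct.map ((frobenius k p).toAddMonoidHom.toZModLinearMap p) LinearMap.id

theorem Fr_tmul (x : k) (a : A) : Fr p k A (x ⊗ₜ a) = (x ^ p) ⊗ₜ a := rfl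

theorem Fr_smul (x : k) (m : k ⊗[ZMod p] A) : Fr p k A (x • m) = (x ^ p) • Fr p k A m := by
  induction m with
  | zero => simp
  | tmul y a => simp only [TensorProduct.smul_tmul', smul_eq_mul, Fr_tmul, mul_pow]
  | add m n hm hn => rw [smul_add, map_add, map_add, hm, hn, smul_add]

theorem exists_Fr_sub (hk : ∀ x : k, ∃ y : k, y ^ p - y = x) (m : k ⊗[ZMod p] A) :
    ∃ y, Fr p k A y - y = m := by
  induction m with
  | zero => exact ⟨0, by simp⟩
  | tmul x a =>
    obtain ⟨y, hy⟩ := hk x
    exact ⟨y ⊗ₜ a, by rw [Fr_tmul, ← TensorProduct.sub_tmul, hy]⟩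
  | add m n hm hn =>
    obtain ⟨y, hy⟩ := hm
    obtain ⟨z, hz⟩ := hn
    exact ⟨y + z, by rw [map_add, ← hy, ← hz]; abel⟩

theorem repr_Fr {ι : Type w} (b : Module.Basis ι (ZMod p) A) (m : k ⊗[ZMod p] A) (i : ι) :
    (b.baseChange k).repr (Fr p k A m) i = ((b.baseChange k).repr m i) ^ p := by
  induction m with
  | zero => simp [(Fact.out : p.Prime).ne_zero]
  | tmul x a =>
    rw [Fr_tmul, Module.Basis.baseChange_repr_tmul, Module.Basis.baseChange_repr_tmul,
      Algebra.smul_def, Algebra.smul_def, mul_pow, ← map_pow, ZMod.pow_card]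
  | add m n hm hn =>
    rw [map_add, map_add, map_add, Finsupp.add_apply, Finsupp.add_apply, hm, hn, add_pow_char]

theorem exists_of_Fr_eq (m : k ⊗[ZMod p] A) (hm : Fr p k A m = m) : ∃ a : A, m = 1 ⊗ₜ a := by
  let b := Module.Basis.ofVectorSpace (ZMod p) A
  have h1 : ∀ i, ∃ c : ZMod p, algebraMap (ZMod p) k c = (b.baseChange k).repr m i := by
    intro i
    have h2 : ((b.baseChange k).repr m i) ^ p = (b.baseChange k).repr m i := by
      rw [← repr_Fr, hm]
    have h3 : (b.baseChange k).repr m i ∈ (⊥ : Subfield k) :=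
      (Subfield.mem_bot_iff_pow_eq_self (F := k) (p := p)).2 h2
    rw [← ZMod.fieldRange_castHom_eq_bot p] at h3
    obtain ⟨c, hc⟩ := h3
    exact ⟨c, hc⟩
  choose c hc using h1
  refine ⟨∑ i ∈ ((b.baseChange k).repr m).support, c i • b i, ?_⟩
  apply (b.baseChange k).repr.injective
  ext i
  rw [Module.Basis.baseChange_repr_tmul, map_sum, Finsupp.finsetSum_apply]
  simp only [map_smul, Finsupp.smul_apply, Module.Basis.repr_self]
  by_cases hi : i ∈ ((b.baseChange k).repr m).support
  · rw [Finset.sum_eq_single i]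
    · rw [Finsupp.single_eq_same, smul_eq_mul, mul_one, Algebra.smul_def, hc, mul_one]
    · intro j _ hj
      rw [Finsupp.single_eq_of_ne (by tauto), smul_zero]
    · intro h
      exact absurd hi h
  · rw [Finset.sum_eq_zero, zero_smul]
    · exact Finsupp.notMem_support_iff.1 hi
    · intro j hj
      rw [Finsupp.single_eq_of_ne (by rintro rfl; exact hi hj), smul_zero]

theorem one_tmul_injective : Function.Injective fun a : A => (1 : k) ⊗ₜ[ZMod p] a := by
  let b := Module.Basis.ofVectorSpace (ZMod p) A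
  intro a a' h
  apply b.repr.injective
  ext i
  have h1 := congrArg (fun m => (b.baseChange k).repr m i) h
  simp only [Module.Basis.baseChange_repr_tmul, Algebra.smul_def, mul_one] at h1
  exact (algebraMap (ZMod p) k).injective h1

theorem exists_finset (m : k ⊗[ZMod p] A) : ∃ s : Finset (k × A),
    m = ∑ x ∈ s, x.1 ⊗ₜ[ZMod p] x.2 := by
  classical
  obtain ⟨s, rfl⟩ := TensorProduct.exists_finset m
  exact ⟨s, rfl⟩

end Frob

section Act

variable (p : ℕ) [Fact p.Prime] (k : Type u) [Field k] [CharP k p]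
  (A : Type v) [AddCommGroup A] [Module (ZMod p) A]
  {H : Type w} [Group H] [MulSemiringAction H k] [DistribMulAction H A]

attribute [local instance] ZMod.algebra

/-- the diagonal action on `k ⊗ A`. -/
noncomputable def act (g : H) : (k ⊗[ZMod p] A) →ₗ[ZMod p] (k ⊗[ZMod p] A) :=
  TensorProduct.map ((DistribSMul.toAddMonoidHom k g).toZModLinearMap p)
    ((DistribSMul.toAddMonoidHom A g).toZModLinearMap p)

theorem act_tmul (g : H) (x : k) (a : A) : act p k A g (x ⊗ₜ a) = (g • x) ⊗ₜ (g • a) := rfl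

theorem act_mul (g h : H) (m : k ⊗[ZMod p] A) :
    act p k A (g * h) m = act p k A g (act p k A h m) := by
  induction m with
  | zero => simp
  | tmul y a => simp only [act_tmul, mul_smul]
  | add m n hm hn => rw [map_add, map_add, map_add, hm, hn]

theorem act_smul (g : H) (x : k) (m : k ⊗[ZMod p] A) :
    act p k A g (x • m) = (g • x) • act p k A g m := by
  induction m with
  | zero => simp
  | tmul y a => simp only [TensorProduct.smul_tmul', smul_eq_mul, act_tmul, smul_mul']
  | add m n hm hn => rw [smul_add, map_add, map_add, hm, hn, smul_add]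

theorem Fr_act (g : H) (m : k ⊗[ZMod p] A) :
    Fr p k A (act p k A g m) = act p k A g (Fr p k A m) := by
  induction m with
  | zero => simp
  | tmul y a => simp only [Fr_tmul, act_tmul, smul_pow']
  | add m n hm hn => rw [map_add, map_add, map_add, map_add, hm, hn]

end Act

section Main

variable (p : ℕ) [Fact p.Prime] {k : Type u} [Field k] [CharP k p]
  {A : Type v} [AddCommGroup A] [Module (ZMod p) A]
  {H : Type w} [Group H] [MulSemiringAction H k] [DistribMulAction H A]
  {Q : Type z} [Group Q] [Fintype Q]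

attribute [local instance] ZMod.algebra

theorem exists_crossed (hk : ∀ x : k, ∃ y : k, y ^ p - y = x) (π : H →* Q)
    (hπ : Function.Surjective π) (f : H → A)
    (hf : ∀ g h, g ∈ π.ker → h ∈ π.ker → f (g * h) = f g + f h)
    (hfc : ∀ g h : H, h ∈ π.ker → f (g * h * g⁻¹) = g • f h)
    (hA : ∀ g ∈ π.ker, ∀ a : A, g • a = a)
    (t : k) (ht : ∀ g ∈ π.ker, g • t = t)
    (htr : ∑ τ : Q, Function.surjInv hπ τ • t = 1) :
    ∃ a : H → A, (∀ g h, a (g * h) = a g + g • a h) ∧
      ∃ Y : Finset k, ∀ g ∈ π.ker, (∀ y ∈ Y, g • y = y) → a g = f g := by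
  classical
  let s : Q → H := Function.surjInv hπ
  have hs : ∀ τ, π (s τ) = τ := Function.surjInv_eq hπ
  -- f 1 = 0
  have hf1 : f 1 = 0 := by
    have := hf 1 1 (one_mem _) (one_mem _)
    rw [mul_one] at this
    simpa using this
  let e : H → A := fun g => f (g * (s (π g))⁻¹)
  have hmem : ∀ g, g * (s (π g))⁻¹ ∈ π.ker := by
    intro g
    rw [MonoidHom.mem_ker, map_mul, map_inv, hs, mul_inv_cancel]
  have he : ∀ g ∈ π.ker, ∀ h, e (g * h) = f g + e h := by
    intro g hg h
    have h1 : π (g * h) = π h := by rw [map_mul, (MonoidHom.mem_ker).1 hg, one_mul]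
    simp only [e]
    rw [h1, mul_assoc, hf g _ hg (hmem h)]
  let c : H → H → A := fun g h => g • e h - e (g * h) + e g
  have hc1 : ∀ g ∈ π.ker, ∀ h l, c (g * h) l = c h l := by
    intro g hg h l
    simp only [c]
    rw [mul_smul, hA g hg, mul_assoc, he g hg, he g hg]
    abel
  have hc2 : ∀ g ∈ π.ker, ∀ h l, c h (g * l) = c h l := by
    intro g hg h l
    simp only [c]
    have h1 : h * (g * l) = (h * g * h⁻¹) * (h * l) := by group
    have h2 : h * g * h⁻¹ ∈ π.ker := (MonoidHom.normal_ker π).conj_mem g hg h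
    rw [h1, he _ h2, hfc h g hg, he g hg, smul_add]
    abel
  have hcc : ∀ g h l, g • c h l - c (g * h) l + c g (h * l) - c g h = 0 := by
    intro g h l
    simp only [c, smul_add, smul_sub, mul_smul, mul_assoc]
    abel
  -- independence of the section
  have hker : ∀ g τ, ∃ q ∈ π.ker, g * s τ = q * s (π g * τ) := by
    intro g τ
    refine ⟨g * s τ * (s (π g * τ))⁻¹, ?_, by group⟩
    rw [MonoidHom.mem_ker, map_mul, map_mul, map_inv, hs, hs, mul_inv_cancel]
  have hkt : ∀ (q : H) (_ : q ∈ π.ker) (h : H), (q * h) • t = h • t := by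
    intro q hq h
    have h1 : q * h = h * (h⁻¹ * q * h) := by group
    have h2 : h⁻¹ * q * h ∈ π.ker := by
      have := (MonoidHom.normal_ker π).conj_mem q hq h⁻¹
      rwa [inv_inv] at this
    rw [h1, mul_smul, ht _ h2]
  have hst : ∀ g τ, (g * s τ) • t = s (π g * τ) • t := by
    intro g τ
    obtain ⟨q, hq, h⟩ := hker g τ
    rw [h, hkt q hq]
  have htr' : ∀ g : H, ∑ τ : Q, (g * s τ) • t = 1 := by
    intro g
    rw [← htr]
    simp only [hst]
    exact Fintype.sum_equiv (Equiv.mulLeft (π g)) _ _ fun τ => rfl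
  -- the first correction
  let b : H → k ⊗[ZMod p] A := fun g =>
    (1 : k) ⊗ₜ[ZMod p] e g - ∑ τ : Q, ((g * s τ) • t) ⊗ₜ[ZMod p] c g (s τ)
  let G : H → (k ⊗[ZMod p] A) →ₗ[ZMod p] (k ⊗[ZMod p] A) := act p k A
  have hG : ∀ g x (a : A), G g (x ⊗ₜ a) = (g • x) ⊗ₜ (g • a) := act_tmul p k A
  have hb : ∀ g h, b (g * h) = b g + G g (b h) := by
    intro g h
    simp only [b, map_sub, map_sum, hG, smul_one]
    -- reindex the sum for `h`
    have h1 : ∑ τ : Q, ((g * h * s τ) • t) ⊗ₜ[ZMod p] c (g * h) (s τ) =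
        ∑ τ : Q, ((g * h * s τ) • t) ⊗ₜ[ZMod p] (g • c h (s τ) + c g (h * s τ) - c g h) := by
      refine Finset.sum_congr rfl fun τ _ => ?_
      congr 1
      have := hcc g h (s τ)
      have h2 : g • c h (s τ) + c g (h * s τ) - c g h = c (g * h) (s τ) +
        (g • c h (s τ) - c (g * h) (s τ) + c g (h * s τ) - c g h) := by abel
      rw [h2, this, add_zero]
    have h2 : ∑ τ : Q, ((g * h * s τ) • t) ⊗ₜ[ZMod p] c g (h * s τ) =
        ∑ τ : Q, ((g * s τ) • t) ⊗ₜ[ZMod p] c g (s τ) := by
      refine Fintype.sum_equiv (Equiv.mulLeft (π h)) _ _ fun τ => ?_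
      simp only [Equiv.coe_mulLeft]
      obtain ⟨q, hq, h3⟩ := hker h τ
      rw [mul_assoc, h3, hc2 q hq]
      congr 1
      have h4 : g * (q * s (π h * τ)) = (g * q * g⁻¹) * (g * s (π h * τ)) := by group
      rw [h4, hkt _ ((MonoidHom.normal_ker π).conj_mem q hq g)]
    rw [h1]
    simp only [TensorProduct.tmul_sub, TensorProduct.tmul_add, Finset.sum_sub_distrib,
      Finset.sum_add_distrib]
    rw [h2, ← TensorProduct.sum_tmul, htr' (g * h)]
    have h5 : e (g * h) = g • e h + e g - c g h := by simp only [c]; abel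
    rw [h5]
    simp only [TensorProduct.tmul_sub, TensorProduct.tmul_add, mul_smul, mul_assoc]
    abel
  have hbP : ∀ g ∈ π.ker, b g = (1 : k) ⊗ₜ[ZMod p] f g := by
    intro g hg
    simp only [b]
    have h1 : ∀ τ, c g (s τ) = e 1 := by
      intro τ
      have h2 := hc1 g hg 1 (s τ)
      rw [mul_one] at h2
      rw [h2]
      simp only [c]
      rw [one_smul, one_mul]
      abel
    simp only [h1]
    rw [← TensorProduct.sum_tmul, htr' g, ← TensorProduct.tmul_sub]
    have h3 := he g hg 1
    rw [mul_one] at h3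
    rw [h3, add_sub_cancel_right]
  -- the obstruction
  have hFG : ∀ g m, Fr p k A (G g m) = G g (Fr p k A m) := fun g m => Fr_act p k A g m
  have hGG : ∀ g h m, G (g * h) m = G g (G h m) := fun g h m => act_mul p k A g h m
  have hGs : ∀ (g : H) (x : k) m, G g (x • m) = (g • x) • G g m := act_smul p k A
  clear_value b G
  let c' : H → k ⊗[ZMod p] A := fun g => Fr p k A (b g) - b g
  have hc' : ∀ g h, c' (g * h) = c' g + G g (c' h) := by
    intro g h
    simp only [c']
    rw [hb, map_add, map_sub, hFG]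
    abel
  have hc'P : ∀ g ∈ π.ker, c' g = 0 := by
    intro g hg
    simp only [c']
    rw [hbP g hg, Fr_tmul, one_pow, sub_self]
  have hc'G : ∀ g ∈ π.ker, ∀ h, G g (c' h) = c' h := by
    intro g hg h
    have h1 := hc' g h
    rw [hc'P g hg, zero_add] at h1
    rw [← h1]
    have h2 : g * h = h * (h⁻¹ * g * h) := by group
    have h3 : h⁻¹ * g * h ∈ π.ker := by
      have := (MonoidHom.normal_ker π).conj_mem g hg h⁻¹
      rwa [inv_inv] at this
    rw [h2, hc', hc'P _ h3, map_zero, add_zero]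
  let z : k ⊗[ZMod p] A := ∑ τ : Q, (s τ • t) • c' (s τ)
  have hz : ∀ g, z - G g z = c' g := by
    intro g
    have h1 : G g z = ∑ τ : Q, ((g * s τ) • t) • (c' (g * s τ) - c' g) := by
      simp only [z, map_sum]
      refine Finset.sum_congr rfl fun τ _ => ?_
      rw [hGs, mul_smul]
      congr 1
      rw [hc' g (s τ)]
      abel
    have h2 : ∑ τ : Q, ((g * s τ) • t) • c' (g * s τ) = z := by
      refine Fintype.sum_equiv (Equiv.mulLeft (π g)) _ _ fun τ => ?_
      simp only [Equiv.coe_mulLeft]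
      rw [hst]
      obtain ⟨q, hq, h3⟩ := hker g τ
      rw [h3, hc' q, hc'P q hq, zero_add, hc'G q hq]
    rw [h1]
    simp only [smul_sub, Finset.sum_sub_distrib]
    rw [h2, ← Finset.sum_smul, htr' g, one_smul]
    abel
  obtain ⟨y, hy⟩ := exists_Fr_sub p k A hk z
  have ha : ∀ g, ∃ a : A, b g + (G g y - y) = (1 : k) ⊗ₜ[ZMod p] a := by
    intro g
    apply exists_of_Fr_eq p k A
    rw [← sub_eq_zero]
    have h1 : Fr p k A (b g + (G g y - y)) - (b g + (G g y - y)) =
        c' g + (G g (Fr p k A y - y) - (Fr p k A y - y)) := by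
      simp only [c']
      rw [map_add, map_sub, map_sub, hFG]
      abel
    rw [h1, hy, ← hz g]
    abel
  choose a ha using ha
  obtain ⟨S, hS⟩ := exists_finset p k A y
  refine ⟨a, fun g h => ?_, S.image Prod.fst, fun g hg hgY => ?_⟩
  · apply one_tmul_injective p k A
    change (1 : k) ⊗ₜ[ZMod p] a (g * h) = (1 : k) ⊗ₜ[ZMod p] (a g + g • a h)
    rw [TensorProduct.tmul_add, ← ha, ← ha]
    have h1 : (1 : k) ⊗ₜ[ZMod p] (g • a h) = G g ((1 : k) ⊗ₜ[ZMod p] a h) := by
      rw [hG, smul_one]
    rw [h1, ← ha, map_add, hb, map_sub, hGG]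
    abel
  · apply one_tmul_injective p k A
    change (1 : k) ⊗ₜ[ZMod p] a g = (1 : k) ⊗ₜ[ZMod p] f g
    rw [← ha, hbP g hg]
    have h1 : G g y = y := by
      conv_lhs => rw [hS]
      conv_rhs => rw [hS]
      rw [map_sum]
      refine Finset.sum_congr rfl fun x hx => ?_
      rw [hG, hgY x.1 (Finset.mem_image_of_mem _ hx), hA g hg]
    rw [h1, sub_self, add_zero]

end Main

end K144.CrossP
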