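import Groth.Agent.Hensel.K144.FinPart

/-!
Existence and uniqueness of the finite part of a quasi-finite separated scheme over a henselian local ring.
-/

set_option autoImplicit false

universe u

open CategoryTheory CategoryTheory.Limits AlgebraicGeometry

namespace K144.FinExist

/-- The algebraic input: for `C` finite over the henselian local ring `R` and `U` an open subset of `Spec C`
there is a clopen subset `W ⊆ U` containing all points of `U` over the closed point. -/
theorem exists_clopen (R : Type u) [CommRing R] [HenselianLocalRing R] (C : Type u) [CommRing C]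
    [Algebra R C] [Module.Finite R C] (U : Set (PrimeSpectrum C)) (hU : IsOpen U) :
    ∃ W : Set (PrimeSpectrum C), IsClopen W ∧ W ⊆ U ∧
      ∀ q ∈ U, q.comap (algebraMap R C) = IsLocalRing.closedPoint R → q ∈ W := by
  classical
  have hfin : Finite (MaximalSpectrum C) := Groth.Agent.Hensel.LocalSplit.finite_maximalSpectrum R C
  have : Fintype (MaximalSpectrum C) := Fintype.ofFinite _
  obtain ⟨e, hc, he, hne⟩ :=
    Groth.Agent.Hensel.LocalSplit.exists_completeOrthogonalIdempotents R C
  let S : Set (MaximalSpectrum C) := {q | q.toPrimeSpectrum ∈ U}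
  refine ⟨⋃ q ∈ S, (PrimeSpectrum.basicOpen (e q) : Set (PrimeSpectrum C)), ?_, ?_, ?_⟩
  · exact (Set.toFinite S).isClopen_biUnion fun q _ =>
      PrimeSpectrum.isClopen_iff.2 ⟨e q, hc.idem q, rfl⟩
  · intro p hp
    rw [Set.mem_iUnion₂] at hp
    obtain ⟨q, hq, hp⟩ := hp
    have hp' : e q ∉ p.asIdeal := hp
    obtain ⟨m, hm, hpm⟩ := p.asIdeal.exists_le_maximal p.isPrime.ne_top
    have hmq : m = q.asIdeal := by
      by_contra hne'
      have h1 : q ≠ (⟨m, hm⟩ : MaximalSpectrum C) := fun h => hne' (by rw [h])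
      have h2 : e q ∈ m := hne q ⟨m, hm⟩ h1
      have h3 : 1 - e q ∈ m :=
        hpm (Groth.Agent.Hensel.LocalSplit.one_sub_mem_of_notMem (hc.idem q) hp')
      apply hm.ne_top
      rw [Ideal.eq_top_iff_one]
      have := m.add_mem h2 h3
      simpa using this
    have hspec : p ⤳ q.toPrimeSpectrum := by
      rw [← PrimeSpectrum.le_iff_specializes]
      change p.asIdeal ≤ q.asIdeal
      rw [← hmq]
      exact hpm
    exact hspec.mem_open hU hq
  · intro q hq hqc
    have hmax : q.asIdeal.IsMaximal := by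
      have h1 : (q.asIdeal.comap (algebraMap R C)) = IsLocalRing.maximalIdeal R :=
        congrArg PrimeSpectrum.asIdeal hqc
      have h2 : (q.asIdeal.comap (algebraMap R C)).IsMaximal := by rw [h1]; infer_instance
      exact Ideal.isMaximal_of_isIntegral_of_isMaximal_comap q.asIdeal h2
    rw [Set.mem_iUnion₂]
    exact ⟨⟨q.asIdeal, hmax⟩, hq, he ⟨q.asIdeal, hmax⟩⟩

theorem exists_finite_part (R : Type u) [CommRing R] [HenselianLocalRing R]
    {X : Scheme.{u}} (f : X ⟶ Spec (CommRingCat.of R))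
    [LocallyQuasiFinite f] [LocallyOfFiniteType f] [QuasiCompact f] [IsSeparated f] :
    ∃ W : X.Opens, IsClosed (W : Set X) ∧ IsFinite (W.ι ≫ f) ∧
      ∀ x : X, f.base x = IsLocalRing.closedPoint R → x ∈ W := by
  obtain ⟨T, j, π, hj, -, hπ, hjπ⟩ := Groth.Agent.S0385.result f
  have hTaff : IsAffine T := isAffine_of_isAffineHom π
  obtain ⟨φ, hφ⟩ := Spec.map_surjective (T.isoSpec.inv ≫ π)
  let j' : X ⟶ Spec Γ(T, ⊤) := j ≫ T.isoSpec.hom
  have hj' : IsOpenImmersion j' := inferInstance
  have hjφ : j' ≫ Spec.map φ = f := by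
    rw [hφ, Category.assoc, Iso.hom_inv_id_assoc, hjπ]
  have hφfin : IsFinite (Spec.map φ) := by rw [hφ]; infer_instance
  let _ : Algebra R Γ(T, ⊤) := φ.hom.toAlgebra
  have hfin : Module.Finite R Γ(T, ⊤) := (IsFinite.SpecMap_iff φ).1 hφfin
  obtain ⟨W, hW, hWU, hWc⟩ := exists_clopen R Γ(T, ⊤) (Set.range j'.base)
    j'.isOpenEmbedding.isOpen_range
  let W' : X.Opens := ⟨j'.base ⁻¹' W, hW.isOpen.preimage j'.continuous⟩
  have hclosed : IsClosed (W' : Set X) := hW.isClosed.preimage j'.continuous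
  refine ⟨W', hclosed, ?_, ?_⟩
  · have hrange : Set.range (W'.ι ≫ j') = W := by
      ext p
      constructor
      · rintro ⟨x, rfl⟩
        exact x.2
      · intro hp
        obtain ⟨x, hx⟩ := hWU hp
        exact ⟨⟨x, by change j'.base x ∈ W; rw [hx]; exact hp⟩, hx⟩
    have hci : IsClosedImmersion (W'.ι ≫ j') := IsClosedImmersion.of_isPreimmersion _ (by
      rw [hrange]; exact hW.isClosed)
    have : W'.ι ≫ f = (W'.ι ≫ j') ≫ Spec.map φ := by rw [Category.assoc, hjφ]
    rw [this]
    infer_instance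
  · intro x hx
    refine hWc (j'.base x) ⟨x, rfl⟩ ?_
    rw [← hx, ← hjφ]
    rfl

theorem existsUnique_finite_part (R : Type u) [CommRing R] [HenselianLocalRing R]
    {X : Scheme.{u}} (f : X ⟶ Spec (CommRingCat.of R))
    [LocallyQuasiFinite f] [LocallyOfFiniteType f] [QuasiCompact f] [IsSeparated f] :
    ∃! W : X.Opens, IsClosed (W : Set X) ∧ IsFinite (W.ι ≫ f) ∧
      ∀ x : X, f.base x = IsLocalRing.closedPoint R → x ∈ W := by
  obtain ⟨W, h1, h2, h3⟩ := exists_finite_part R f
  refine ⟨W, ⟨h1, h2, h3⟩, ?_⟩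
  rintro W' ⟨h1', h2', h3'⟩
  apply TopologicalSpace.Opens.ext
  ext x
  exact ⟨fun hx => K144.FinPart.functorial f f W' h2' W h3 (𝟙 X) (Category.id_comp f) x hx,
    fun hx => K144.FinPart.functorial f f W h2 W' h3' (𝟙 X) (Category.id_comp f) x hx⟩

end K144.FinExist
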