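import Groth.Agent.Hensel.K144.Locus
import Groth.Agent.Hensel.FinitePart
import Groth.Agent.S0526
import Mathlib.RingTheory.Localization.Away.Lemmas

/-!
Henselian finitely presented maps `A → B` of henselian pairs (`B` a henselization of `(R, IR)` for a
finitely presented `A`-algebra `R`): if `A/I → B/IB` is finite, then `A → B` is finite and finitely
presented; if `A/I → B/IB` is surjective, so is `A → B`.
-/

set_option autoImplicit false

universe u

open TensorProduct

namespace K144.Hfp

/-- If `R/IR` is finite over `A`, the algebra `R` is quasi-finite at the primes of `V(IR)`. -/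
theorem quasiFiniteAt_of_finite_quotient {A : Type u} [CommRing A] {I : Ideal A} {R : Type u}
    [CommRing R] [Algebra A R] [Algebra.FiniteType A R]
    (h : Module.Finite A (R ⧸ I.map (algebraMap A R))) (p : Ideal R) [p.IsPrime]
    (hp : I.map (algebraMap A R) ≤ p) : Algebra.QuasiFiniteAt A p := by
  have hle : I.map (algebraMap A R) ≤ (p.under A).map (algebraMap A R) :=
    Ideal.map_mono (Ideal.map_le_iff_le_comap.1 hp)
  have h1 : Algebra.QuasiFinite A (R ⧸ (p.under A).map (algebraMap A R)) :=
    Algebra.QuasiFinite.of_surjective_algHom (Ideal.Quotient.factorₐ A hle)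
      (Ideal.Quotient.factor_surjective hle)
  have h2 : Algebra.WeaklyQuasiFiniteAt A p := by
    have hq' : (p.map (Ideal.Quotient.mk ((p.under A).map (algebraMap A R)))).IsPrime :=
      inferInstance
    change Algebra.QuasiFinite A (Localization.AtPrime
      (p.map (Ideal.Quotient.mk ((p.under A).map (algebraMap A R)))))
    infer_instance
  exact Algebra.QuasiFiniteAt.of_weaklyQuasiFiniteAt p

/-- A henselian pair `(B, IB)` is its own henselization. -/
theorem isPairHenselization_self {B : Type u} [CommRing B] {J : Ideal B} [h : HenselianRing B J] :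
    Hens2.IsPairHenselization B J B := by
  refine ⟨?_, ?_⟩
  · have : J.map (algebraMap B B) = J := Ideal.map_id J
    rw [this]; exact h
  · intro C _ K f _ _
    refine ⟨f, RingHom.comp_id _, fun g hg => ?_⟩
    rw [← hg]; exact (RingHom.comp_id _).symm

/-- The finite model: an étale neighbourhood of `(R, IR)` which is finite over `A`. -/
theorem exists_finite_nbhd {A : Type u} [CommRing A] {I : Ideal A} [HenselianRing A I] {R : Type u}
    [CommRing R] [Algebra A R] [Algebra.FinitePresentation A R]
    (h : Module.Finite A (R ⧸ I.map (algebraMap A R))) :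
    ∃ (R' : Type u) (_ : CommRing R') (_ : Algebra R R') (_ : Algebra A R')
      (_ : IsScalarTower A R R'), Algebra.Etale R R' ∧
      Function.Bijective (Ideal.quotientMap ((I.map (algebraMap A R)).map (algebraMap R R'))
        (algebraMap R R') Ideal.le_comap_map) ∧ Module.Finite A R' ∧
        Algebra.FinitePresentation A R' ∧ Hens2.IsPairHenselization R (I.map (algebraMap A R)) R' := by
  obtain ⟨g, hg, h1, h2, h3⟩ := K144.Locus.exists_quasiFinite_nbhd (A := A) (R := R)
    (I.map (algebraMap A R)) (fun p hp => quasiFiniteAt_of_finite_quotient h p.asIdeal hp)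
  let R₁ := Localization.Away g
  have hfp₁ : Algebra.FinitePresentation A R₁ :=
    Algebra.FinitePresentation.trans A R R₁
  have hmap₁ : (I.map (algebraMap A R)).map (algebraMap R R₁) = I.map (algebraMap A R₁) := by
    rw [Ideal.map_map, ← IsScalarTower.algebraMap_eq]
  have hfin₁ : Module.Finite A (R₁ ⧸ I.map (algebraMap A R₁)) := by
    rw [← hmap₁]
    let q : (R ⧸ I.map (algebraMap A R)) →ₐ[A] (R₁ ⧸ (I.map (algebraMap A R)).map (algebraMap R R₁)) :=
      { (Ideal.quotientMap ((I.map (algebraMap A R)).map (algebraMap R R₁))
        (algebraMap R R₁) Ideal.le_comap_map) with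
        commutes' := fun a => rfl }
    exact Module.Finite.of_surjective q.toLinearMap h2.2
  obtain ⟨e, he, heI, hfin⟩ := Groth.Agent.Hensel.FinitePart.exists_finite_part I R₁
    (Algebra.IsIntegral.of_finite A _)
  let R₂ := R₁ ⧸ Ideal.span {1 - e}
  have hloc : IsLocalization.Away e R₂ := IsLocalization.Away.quotient_of_isIdempotentElem he
  have het₂ : Algebra.Etale R₁ R₂ := Algebra.Etale.of_isLocalizationAway e
  have hbij₂ := K144.Locus.bijective_away (I.map (algebraMap A R₁)) e heI R₂
  have hfp₂ : Algebra.FinitePresentation A R₂ := Algebra.FinitePresentation.trans A R₁ R₂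
  have hhens : HenselianRing R₂ (I.map (algebraMap A R₂)) :=
    have : Algebra.IsIntegral A R₂ := Algebra.IsIntegral.of_finite A R₂
    Groth.Agent.S0526.result A I R₂
  have hmap₂ : (I.map (algebraMap A R₁)).map (algebraMap R₁ R₂) = I.map (algebraMap A R₂) := by
    rw [Ideal.map_map, ← IsScalarTower.algebraMap_eq]
  have hens₂ : Hens2.IsPairHenselization R₁ (I.map (algebraMap A R₁)) R₂ := by
    refine K144.Nbhd.isPairHenselization_of_etale (S := R₂) hbij₂ ?_
    rw [hmap₂]
    exact isPairHenselization_self
  have hens₁ : Hens2.IsPairHenselization R (I.map (algebraMap A R)) R₂ := by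
    refine K144.Nbhd.isPairHenselization_of_etale (S := R₁) h2 ?_
    rw [hmap₁]
    exact hens₂
  refine ⟨R₂, inferInstance, inferInstance, inferInstance, inferInstance,
    Algebra.Etale.comp R R₁ R₂, ?_, hfin, hfp₂, hens₁⟩
  exact Groth.Agent.Etalg.PairHens2.quot_bijective R₂ hens₁

/-- S17596: quotient finite implies finite and finitely presented. -/
theorem finite_and_finitePresentation {A : Type u} [CommRing A] {I : Ideal A}
    [HenselianRing A I] {R : Type u} [CommRing R] [Algebra A R] [Algebra.FinitePresentation A R]
    {B : Type u} [CommRing B] [Algebra R B] [Algebra A B] [IsScalarTower A R B]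
    (hB : Hens2.IsPairHenselization R (I.map (algebraMap A R)) B)
    (hfin : Module.Finite A (B ⧸ I.map (algebraMap A B))) :
    Module.Finite A B ∧ Algebra.FinitePresentation A B := by
  have hbij := Groth.Agent.Etalg.PairHens2.quot_bijective B hB
  have hmap : (I.map (algebraMap A R)).map (algebraMap R B) = I.map (algebraMap A B) := by
    rw [Ideal.map_map, ← IsScalarTower.algebraMap_eq]
  have h : Module.Finite A (R ⧸ I.map (algebraMap A R)) := by
    rw [← hmap] at hfin
    let q : (R ⧸ I.map (algebraMap A R)) →ₐ[A] (B ⧸ (I.map (algebraMap A R)).map (algebraMap R B)) :=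
      { (Ideal.quotientMap ((I.map (algebraMap A R)).map (algebraMap R B))
        (algebraMap R B) Ideal.le_comap_map) with
        commutes' := fun a => by
          change Ideal.Quotient.mk _ (algebraMap R B (algebraMap A R a)) = _
          rw [← IsScalarTower.algebraMap_apply]
          rfl }
    exact Module.Finite.equiv (LinearEquiv.ofBijective q.toLinearMap hbij).symm
  obtain ⟨R', _, _, _, _, -, -, h1, h2, h3⟩ := exists_finite_nbhd (I := I) h
  obtain ⟨e⟩ := Groth.Agent.Etalg.PairHens2.exists_equiv h3 hB
  exact ⟨Module.Finite.equiv (e.restrictScalars A).toLinearEquiv,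
    Algebra.FinitePresentation.equiv (e.restrictScalars A)⟩

/-- S17597: quotient surjective implies surjective. -/
theorem surjective_of_quotient {A : Type u} [CommRing A] {I : Ideal A}
    [HenselianRing A I] {R : Type u} [CommRing R] [Algebra A R] [Algebra.FinitePresentation A R]
    {B : Type u} [CommRing B] [Algebra R B] [Algebra A B] [IsScalarTower A R B]
    (hB : Hens2.IsPairHenselization R (I.map (algebraMap A R)) B)
    (hsurj : Function.Surjective
      (Ideal.quotientMap (I.map (algebraMap A B)) (algebraMap A B) Ideal.le_comap_map)) :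
    Function.Surjective (algebraMap A B) := by
  have hs : Function.Surjective (algebraMap A (B ⧸ I.map (algebraMap A B))) := by
    intro y
    obtain ⟨x, hx⟩ := hsurj y
    obtain ⟨a, rfl⟩ := Ideal.Quotient.mk_surjective x
    exact ⟨a, hx⟩
  have hfin : Module.Finite A (B ⧸ I.map (algebraMap A B)) :=
    Module.Finite.of_surjective (Algebra.linearMap A _) hs
  obtain ⟨h1, -⟩ := finite_and_finitePresentation hB hfin
  have hle : (⊤ : Submodule A B) ≤ LinearMap.range (Algebra.linearMap A B) ⊔ I • ⊤ := by
    intro b _
    obtain ⟨a, ha⟩ := hs (Ideal.Quotient.mk _ b)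
    have h2 : b - algebraMap A B a ∈ I.map (algebraMap A B) := by
      rw [← Ideal.Quotient.eq, ← ha]
      rfl
    have h3 : b = algebraMap A B a + (b - algebraMap A B a) := by ring
    rw [h3]
    refine Submodule.add_mem_sup ⟨a, rfl⟩ ?_
    rw [Ideal.smul_top_eq_map]
    exact h2
  have h4 := Submodule.le_of_le_smul_of_le_jacobson_bot h1.fg_top
    (HenselianRing.jac (R := A) (I := I)) hle
  intro b
  exact h4 (Submodule.mem_top (x := b))

end K144.Hfp
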