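import Mathlib

/-!
# Valuation subrings stable under a Galois group

`L/M` Galois, `B` a valuation subring of `L` stable under `Gal(L/M)`. The residue action, surjectivity
onto automorphisms of the residue field, independence of the residue characters on unramified
subextensions.
-/

set_option autoImplicit false
universe u v

namespace K144.Inert

variable {M : Type u} {L : Type v} [Field M] [Field L] [Algebra M L] (B : ValuationSubring L)

/-- `B` is stable under `Gal(L/M)`. -/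
def Stab (M : Type u) {L : Type v} [Field M] [Field L] [Algebra M L] (B : ValuationSubring L) : Prop :=
  ∀ (σ : L ≃ₐ[M] L) (b : L), b ∈ B → σ b ∈ B

variable {B}

/-- The action of the Galois group on `B`. -/
@[reducible] def actB (hB : Stab M B) : MulSemiringAction (L ≃ₐ[M] L) B where
  smul σ b := ⟨σ b, hB σ b b.2⟩
  one_smul _ := Subtype.ext rfl
  mul_smul _ _ _ := Subtype.ext rfl
  smul_zero σ := Subtype.ext (map_zero σ)
  smul_add σ _ _ := Subtype.ext (map_add σ _ _)
  smul_one σ := Subtype.ext (map_one σ)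
  smul_mul σ _ _ := Subtype.ext (map_mul σ _ _)

theorem Stab.restrict (hB : Stab M B) (E : IntermediateField M L) : Stab E B :=
  fun σ b hb => hB (σ.restrictScalars M) b hb

theorem mem_iff (hB : Stab M B) (σ : L ≃ₐ[M] L) (b : L) : σ b ∈ B ↔ b ∈ B := by
  refine ⟨fun h => ?_, hB σ b⟩
  have := hB σ⁻¹ _ h
  rwa [← AlgEquiv.mul_apply, inv_mul_cancel, AlgEquiv.one_apply] at this

theorem mem_iff_le (b : L) : b ∈ B ↔ B.valuation b ≤ 1 := (B.valuation_le_one_iff b).symm

theorem lt_one_iff {b : L} (hb : b ≠ 0) : B.valuation b < 1 ↔ b⁻¹ ∉ B := by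
  rw [mem_iff_le, not_le, map_inv₀, one_lt_inv₀ (zero_lt_iff.2 ((map_ne_zero _).2 hb))]

theorem val_lt_one (hB : Stab M B) (σ : L ≃ₐ[M] L) {b : L} (hb : B.valuation b < 1) :
    B.valuation (σ b) < 1 := by
  by_cases h0 : b = 0
  · rw [h0, map_zero, map_zero]; exact zero_lt_one
  rw [lt_one_iff (by simpa using h0), ← map_inv₀, mem_iff hB]
  exact (lt_one_iff h0).1 hb

section Galois

variable [Algebra.IsAlgebraic M L]

/-- every element is periodic under every automorphism. -/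
theorem exists_pow_apply (σ : L ≃ₐ[M] L) (x : L) : ∃ n : ℕ, 0 < n ∧ (σ ^ n) x = x := by
  classical
  have hx : IsIntegral M x := Algebra.IsIntegral.isIntegral x
  let S := (minpoly M x).rootSet L
  have hS : S.Finite := Polynomial.rootSet_finite _ _
  have hmem : ∀ n : ℕ, (σ ^ n) x ∈ S := by
    intro n
    rw [Polynomial.mem_rootSet]
    refine ⟨minpoly.ne_zero hx, ?_⟩
    have h := Polynomial.aeval_algHom_apply (σ ^ n) x (minpoly M x)
    rw [h, minpoly.aeval, map_zero]
  have : Finite S := hS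
  obtain ⟨m, n, hmn, h⟩ := Finite.exists_ne_map_eq_of_infinite (fun n : ℕ => (⟨(σ ^ n) x, hmem n⟩ : S))
  have key : ∀ m n : ℕ, m < n → (σ ^ m) x = (σ ^ n) x → ∃ n : ℕ, 0 < n ∧ (σ ^ n) x = x := by
    intro m n hlt h
    refine ⟨n - m, by omega, ?_⟩
    apply (σ ^ m).injective
    rw [← AlgEquiv.mul_apply, ← pow_add, Nat.add_sub_cancel' hlt.le, h]
  rcases lt_or_gt_of_ne hmn with hlt | hlt
  · exact key m n hlt (Subtype.ext_iff.1 h)
  · exact key n m hlt (Subtype.ext_iff.1 h.symm)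

theorem val_smul (hB : Stab M B) (σ : L ≃ₐ[M] L) (x : L) :
    B.valuation (σ x) = B.valuation x := by
  by_cases hx : x = 0
  · rw [hx, map_zero]
  have key : ∀ (σ : L ≃ₐ[M] L), ¬ B.valuation (σ x) < B.valuation x := by
    intro σ h
    obtain ⟨n, hn, hσ⟩ := exists_pow_apply σ x
    have h1 : ∀ i : ℕ, B.valuation ((σ ^ (i + 1)) x) < B.valuation ((σ ^ i) x) := by
      intro i
      have h2 : B.valuation (σ x / x) < 1 := by
        rw [map_div₀]
        exact (div_lt_one₀ (zero_lt_iff.2 ((map_ne_zero _).2 hx))).2 h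
      have h3 := val_lt_one hB (σ ^ i) h2
      rw [map_div₀, map_div₀, div_lt_one₀ (zero_lt_iff.2 ((map_ne_zero _).2
        ((map_ne_zero (σ ^ i)).2 hx)))] at h3
      rw [pow_succ]
      exact h3
    have h2 : StrictAnti fun i : ℕ => B.valuation ((σ ^ i) x) := strictAnti_nat_of_succ_lt h1
    have h3 := h2 hn
    simp only [hσ, pow_zero, AlgEquiv.one_apply] at h3
    exact lt_irrefl _ h3
  refine le_antisymm (not_lt.1 fun h => ?_) (not_lt.1 (key σ))
  obtain ⟨n, hn, hσ⟩ := exists_pow_apply σ x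
  have h1 : ∀ i : ℕ, B.valuation ((σ ^ i) x) < B.valuation ((σ ^ (i + 1)) x) := by
    intro i
    have h2 : B.valuation (x / σ x) < 1 := by
      rw [map_div₀]
      exact (div_lt_one₀ (zero_lt_iff.2 ((map_ne_zero _).2 (by simpa using hx)))).2 h
    have h3 := val_lt_one hB (σ ^ i) h2
    rw [map_div₀, map_div₀, div_lt_one₀ (zero_lt_iff.2 ((map_ne_zero _).2
      ((map_ne_zero (σ ^ i)).2 ((map_ne_zero σ).2 hx))))] at h3
    rw [pow_succ]
    exact h3
  have h2 : StrictMono fun i : ℕ => B.valuation ((σ ^ i) x) := strictMono_nat_of_lt_succ h1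
  have h3 := h2 hn
  simp only [hσ, pow_zero, AlgEquiv.one_apply] at h3
  exact lt_irrefl _ h3

end Galois

variable (B) in
/-- `σ` and `τ` agree on the residue field. -/
def Cong (σ τ : L ≃ₐ[M] L) : Prop := ∀ b ∈ B, B.valuation (σ b - τ b) < 1

theorem Cong.mul_left (hB : Stab M B) {σ τ : L ≃ₐ[M] L} (h : Cong B σ τ) (ρ : L ≃ₐ[M] L) :
    Cong B (ρ * σ) (ρ * τ) := by
  intro b hb
  rw [AlgEquiv.mul_apply, AlgEquiv.mul_apply, ← map_sub]
  exact val_lt_one hB ρ (h b hb)

theorem Cong.mul_right (hB : Stab M B) {σ τ : L ≃ₐ[M] L} (h : Cong B σ τ) (ρ : L ≃ₐ[M] L) :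
    Cong B (σ * ρ) (τ * ρ) := by
  intro b hb
  rw [AlgEquiv.mul_apply, AlgEquiv.mul_apply]
  exact h _ (hB ρ b hb)

theorem Cong.symm {σ τ : L ≃ₐ[M] L} (h : Cong B σ τ) : Cong B τ σ := by
  intro b hb
  rw [← neg_sub, Valuation.map_neg]
  exact h b hb

theorem Cong.trans {σ τ ρ : L ≃ₐ[M] L} (h : Cong B σ τ) (h' : Cong B τ ρ) : Cong B σ ρ := by
  intro b hb
  have : σ b - ρ b = (σ b - τ b) + (τ b - ρ b) := by ring
  rw [this]
  exact (B.valuation.map_add _ _).trans_lt (max_lt (h b hb) (h' b hb))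

/-- the inertia group. -/
def N (hB : Stab M B) : Subgroup (L ≃ₐ[M] L) where
  carrier := {σ | Cong B σ 1}
  one_mem' := by intro b hb; simp
  mul_mem' := by
    intro σ τ hσ hτ
    have h1 := Cong.mul_right hB hσ τ
    rw [one_mul] at h1
    exact h1.trans hτ
  inv_mem' := by
    intro σ hσ
    have h1 := Cong.mul_left hB hσ σ⁻¹
    rw [inv_mul_cancel, mul_one] at h1
    exact h1.symm

theorem mem_N (hB : Stab M B) (σ : L ≃ₐ[M] L) : σ ∈ N hB ↔ Cong B σ 1 := Iff.rfl

instance normal_N (hB : Stab M B) : (N hB).Normal := by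
  constructor
  intro σ hσ τ
  have h1 := Cong.mul_right hB (Cong.mul_left hB hσ τ) τ⁻¹
  rw [mul_one, mul_inv_cancel] at h1
  exact h1

theorem cong_iff (hB : Stab M B) (σ τ : L ≃ₐ[M] L) : Cong B σ τ ↔ τ⁻¹ * σ ∈ N hB := by
  rw [mem_N]
  constructor
  · intro h
    have := Cong.mul_left hB h τ⁻¹
    rwa [inv_mul_cancel] at this
  · intro h
    have := Cong.mul_left hB h τ
    rwa [mul_one, mul_inv_cancel_left] at this

section Surj

open IsLocalRing

/-- An automorphism acting trivially on the residues of `B ∩ E` agrees on the residue field with an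
automorphism fixing `E`. -/
theorem exists_fixing [IsGalois M L] (hB : Stab M B) (E : IntermediateField M L) (τ : L ≃ₐ[M] L)
    (hτ : ∀ b ∈ B, b ∈ E → B.valuation (τ b - b) < 1) :
    ∃ ρ ∈ E.fixingSubgroup, Cong B τ ρ := by
  have hE : Stab E B := hB.restrict E
  let _ : MulSemiringAction (L ≃ₐ[E] L) B := actB hE
  have hsm : ∀ (g : L ≃ₐ[E] L) (b : B), ((g • b : B) : L) = g b := fun g b => rfl
  let _ : TopologicalSpace B := ⊥
  have : DiscreteTopology B := ⟨rfl⟩
  have : ContinuousSMul (L ≃ₐ[E] L) B := by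
    rw [continuousSMul_iff_stabilizer_isOpen]
    intro x
    have h1 := stabilizer_isOpen_of_isIntegral (K := E) (L := L) (x : L)
    convert h1 using 1
    ext g
    simp only [SetLike.mem_coe, MulAction.mem_stabilizer_iff]
    exact Subtype.ext_iff
  let A := FixedPoints.subring B (L ≃ₐ[E] L)
  have : SMulCommClass (L ≃ₐ[E] L) A B := ⟨fun g a b => by
    change g • ((a : B) * b) = (a : B) * (g • b)
    rw [smul_mul']
    congr 1
    exact a.2 g⟩
  have : Algebra.IsInvariant A B (L ≃ₐ[E] L) := ⟨fun b hb => ⟨⟨b, hb⟩, rfl⟩⟩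
  have hAE : ∀ a : A, ((a : B) : L) ∈ E := by
    intro a
    have h1 : ((a : B) : L) ∈ (⊥ : IntermediateField E L) := by
      rw [InfiniteGalois.mem_bot_iff_fixed]
      intro g
      exact congrArg Subtype.val (a.2 g)
    rw [IntermediateField.mem_bot] at h1
    obtain ⟨e, he⟩ := h1
    rw [← he]
    exact e.2
  let Q : Ideal B := maximalIdeal B
  let P : Ideal A := Q.under A
  have : Q.LiesOver P := Ideal.over_under _
  -- the automorphism of `B`
  let τB : B ≃+* B :=
    { toFun := fun b => ⟨τ b, hB τ b b.2⟩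
      invFun := fun b => ⟨τ⁻¹ b, hB τ⁻¹ b b.2⟩
      left_inv := fun b => Subtype.ext (by
        change (τ⁻¹ * τ) (b : L) = b
        rw [inv_mul_cancel]; rfl)
      right_inv := fun b => Subtype.ext (by
        change (τ * τ⁻¹) (b : L) = b
        rw [mul_inv_cancel]; rfl)
      map_mul' := fun b c => Subtype.ext (map_mul τ _ _)
      map_add' := fun b c => Subtype.ext (map_add τ _ _) }
  have hQ : Q = Q.map (τB : B →+* B) := by
    have h1 : Q.map (τB : B →+* B) = maximalIdeal B := by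
      rw [Ideal.map_comap_of_equiv]
      exact IsLocalRing.eq_maximalIdeal (Ideal.comap_isMaximal_of_equiv _)
    exact h1.symm
  let σ0 : (B ⧸ Q) ≃+* (B ⧸ Q) := Ideal.quotientEquiv Q Q τB hQ
  have hσ0 : ∀ b : B, σ0 (Ideal.Quotient.mk Q b) = Ideal.Quotient.mk Q (τB b) := fun b => rfl
  let σ : (B ⧸ Q) ≃ₐ[A ⧸ P] (B ⧸ Q) := AlgEquiv.ofRingEquiv (f := σ0) (by
    intro a
    obtain ⟨a, rfl⟩ := Ideal.Quotient.mk_surjective a
    change σ0 (Ideal.Quotient.mk Q (a : B)) = Ideal.Quotient.mk Q (a : B)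
    rw [hσ0, Ideal.Quotient.eq, ValuationSubring.valuation_lt_one_iff]
    exact hτ _ (a : B).2 (hAE a))
  obtain ⟨g, hg⟩ := Ideal.Quotient.stabilizerHom_surjective_of_profinite (G := L ≃ₐ[E] L) P Q σ
  refine ⟨(g : L ≃ₐ[E] L).restrictScalars M, ?_, ?_⟩
  · rw [IntermediateField.mem_fixingSubgroup_iff]
    intro x hx
    exact (g : L ≃ₐ[E] L).commutes ⟨x, hx⟩
  · intro b hb
    have h1 := DFunLike.congr_fun hg (Ideal.Quotient.mk Q ⟨b, hb⟩)
    have h2 : σ (Ideal.Quotient.mk Q ⟨b, hb⟩) = Ideal.Quotient.mk Q (τB ⟨b, hb⟩) := rfl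
    have h3 : Ideal.Quotient.stabilizerHom Q P (L ≃ₐ[E] L) g (Ideal.Quotient.mk Q ⟨b, hb⟩) =
      Ideal.Quotient.mk Q ((g : L ≃ₐ[E] L) • (⟨b, hb⟩ : B)) := rfl
    rw [h2, h3] at h1
    have h4 := (Ideal.Quotient.eq.1 h1.symm)
    rw [ValuationSubring.valuation_lt_one_iff] at h4
    exact h4

/-- Independence of the residue characters on an unramified finite Galois subextension. -/
theorem exists_sum_unit [IsGalois M L] (hB : Stab M B) (E : IntermediateField M L)
    [FiniteDimensional M E] [IsGalois M E] (hN : N hB ≤ E.fixingSubgroup)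
    (c : (E ≃ₐ[M] E) → L) (hc : ∀ σ, B.valuation (c σ) = 1) :
    ∃ b : E, (b : L) ∈ B ∧ B.valuation (∑ σ : E ≃ₐ[M] E, c σ * (σ b : E)) = 1 := by
  classical
  let k := ResidueField B
  let A : ValuationSubring E := B.comap (algebraMap E L)
  have hA : ∀ x : E, x ∈ A ↔ (x : L) ∈ B := fun x => Iff.rfl
  have hlift : ∀ σ : E ≃ₐ[M] E, ∃ σ' : L ≃ₐ[M] L, AlgEquiv.restrictNormalHom E σ' = σ :=
    AlgEquiv.restrictNormalHom_surjective L
  have hres : ∀ (σ' : L ≃ₐ[M] L) (x : E),
      ((AlgEquiv.restrictNormalHom E σ' x : E) : L) = σ' x := fun σ' x =>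
    AlgEquiv.restrictNormal_commutes σ' E x
  have hAσ : ∀ (σ : E ≃ₐ[M] E) (x : E), (x : L) ∈ B → ((σ x : E) : L) ∈ B := by
    intro σ x hx
    obtain ⟨σ', rfl⟩ := hlift σ
    rw [hres]
    exact hB σ' _ hx
  let χ : (E ≃ₐ[M] E) → (A →* k) := fun σ =>
    { toFun := fun a => residue B ⟨((σ a : E) : L), hAσ σ a a.2⟩
      map_one' := by
        have : (⟨((σ ((1 : A) : E) : E) : L), hAσ σ _ (1 : A).2⟩ : B) = 1 := Subtype.ext (by simp)
        rw [this, map_one]
      map_mul' := fun a b => by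
        rw [← map_mul]
        congr 1
        exact Subtype.ext (by simp) }
  have hχ : ∀ σ (a : A), χ σ a = residue B ⟨((σ a : E) : L), hAσ σ a a.2⟩ := fun σ a => rfl
  have hinj : Function.Injective χ := by
    intro σ τ h
    obtain ⟨σ', rfl⟩ := hlift σ
    obtain ⟨τ', rfl⟩ := hlift τ
    have h1 : ∀ b ∈ B, b ∈ E → B.valuation ((τ'⁻¹ * σ') b - b) < 1 := by
      intro b hb hbE
      have h2 := DFunLike.congr_fun h (⟨⟨b, hbE⟩, hb⟩ : A)
      rw [hχ, hχ, ← sub_eq_zero, ← map_sub, residue_eq_zero_iff,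
        ValuationSubring.valuation_lt_one_iff] at h2
      change B.valuation (((AlgEquiv.restrictNormalHom E σ' ⟨b, hbE⟩ : E) : L) -
        ((AlgEquiv.restrictNormalHom E τ' ⟨b, hbE⟩ : E) : L)) < 1 at h2
      rw [hres, hres] at h2
      have h3 := val_lt_one hB τ'⁻¹ h2
      rw [map_sub] at h3
      have h4 : τ'⁻¹ (τ' b) = b := by
        change (τ'⁻¹ * τ') b = b
        rw [inv_mul_cancel]; rfl
      rw [h4] at h3
      exact h3
    obtain ⟨ρ, hρ, hc⟩ := exists_fixing hB E _ h1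
    rw [cong_iff hB] at hc
    have h2 := hN hc
    rw [IntermediateField.mem_fixingSubgroup_iff] at h2 hρ
    ext x
    rw [hres, hres]
    have h3 := h2 x x.2
    have h4 : ρ ((ρ⁻¹ * (τ'⁻¹ * σ')) x) = (τ'⁻¹ * σ') x := by
      change (ρ * (ρ⁻¹ * (τ'⁻¹ * σ'))) (x : L) = _
      rw [mul_inv_cancel_left]
    rw [h3, hρ x x.2] at h4
    have h5 := congrArg τ' h4
    have h6 : τ' ((τ'⁻¹ * σ') x) = σ' x := by
      change (τ' * (τ'⁻¹ * σ')) (x : L) = _
      rw [mul_inv_cancel_left]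
    rw [h6] at h5
    exact h5.symm
  have hind : LinearIndependent k fun σ => (χ σ : A → k) :=
    (linearIndependent_monoidHom A k).comp χ hinj
  have hcB : ∀ σ, c σ ∈ B := fun σ => (mem_iff_le _).2 (hc σ).le
  let cB : (E ≃ₐ[M] E) → B := fun σ => ⟨c σ, hcB σ⟩
  have hcu : ∀ σ, IsUnit (cB σ) := fun σ => (B.valuation_eq_one_iff _).2 (hc σ)
  by_contra hcon
  push Not at hcon
  have hzero : ∑ σ : E ≃ₐ[M] E, residue B (cB σ) • (χ σ : A → k) = 0 := by
    funext a
    rw [Finset.sum_apply]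
    simp only [Pi.smul_apply, Pi.zero_apply, smul_eq_mul]
    have h1 : ∀ σ, residue B (cB σ) * χ σ a =
        residue B (cB σ * ⟨((σ a : E) : L), hAσ σ a a.2⟩) := fun σ => by
      rw [map_mul]; rfl
    simp only [h1]
    rw [← map_sum, residue_eq_zero_iff]
    rcases B.valuation_lt_one_or_eq_one (∑ σ, cB σ * ⟨((σ a : E) : L), hAσ σ a a.2⟩) with h | h
    · exact (B.valuation_lt_one_iff _).2 h
    · exfalso
      apply hcon a a.2
      rw [← h]
      have h2 := map_sum (ValuationSubring.subtype B)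
        (fun σ => cB σ * ⟨((σ a : E) : L), hAσ σ a a.2⟩) Finset.univ
      exact congrArg _ h2.symm
  have h1 := Fintype.linearIndependent_iff.1 hind _ hzero 1
  rw [residue_eq_zero_iff] at h1
  exact h1 (hcu 1)

end Surj

end K144.Inert
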