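import Mathlib
import Groth.Agent.Hensel.K144.InertA

/-!
# Tame part of the complement of the inertia group
-/

set_option autoImplicit false
universe u v

namespace K144.Inert

open IsLocalRing IntermediateField

variable {M : Type u} {L : Type v} [Field M] [Field L] [Algebra M L] {B : ValuationSubring L}

/-- `M` has no proper extension in `L` disjoint from the maximal unramified one. -/
def Max (M : Type u) {L : Type v} [Field M] [Field L] [Algebra M L] (B : ValuationSubring L) : Prop :=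
  ∀ M' : IntermediateField M L, (∀ σ : L ≃ₐ[M] L, ∃ τ ∈ M'.fixingSubgroup, Cong B σ τ) → M' = ⊥

theorem exists_finiteGalois [IsGalois M L] (x : L) : ∃ E : IntermediateField M L,
    FiniteDimensional M E ∧ IsGalois M E ∧ x ∈ E := by
  let E := FiniteGaloisIntermediateField.adjoin M ({x} : Set L)
  exact ⟨E.1, inferInstance, inferInstance,
    FiniteGaloisIntermediateField.subset_adjoin M {x} (Set.mem_singleton x)⟩

theorem normal_fixing [IsGalois M L] (E : IntermediateField M L) [IsGalois M E] :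
    E.fixingSubgroup.Normal := (InfiniteGalois.normal_iff_isGalois E).2 inferInstance

theorem exists_E0 [IsGalois M L] (hB : Stab M B) (E : IntermediateField M L)
    [FiniteDimensional M E] [IsGalois M E] : ∃ E0 : IntermediateField M L,
      FiniteDimensional M E0 ∧ IsGalois M E0 ∧ E0.fixingSubgroup = E.fixingSubgroup ⊔ N hB := by
  have h1 : E.fixingSubgroup.Normal := normal_fixing E
  let P : Subgroup (L ≃ₐ[M] L) := E.fixingSubgroup ⊔ N hB
  have hPn : P.Normal := Subgroup.sup_normal _ _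
  have hPo : IsOpen (P : Set (L ≃ₐ[M] L)) :=
    Subgroup.isOpen_mono (le_sup_left : E.fixingSubgroup ≤ P) (IntermediateField.fixingSubgroup_isOpen E)
  have hPc : IsClosed (P : Set (L ≃ₐ[M] L)) := Subgroup.isClosed_of_isOpen P hPo
  let P' : ClosedSubgroup (L ≃ₐ[M] L) := ⟨P, hPc⟩
  have h2 : (fixedField P).fixingSubgroup = P := InfiniteGalois.fixingSubgroup_fixedField P'
  refine ⟨fixedField P, ?_, ?_, h2⟩
  · rw [← InfiniteGalois.isOpen_iff_finite, h2]
    exact hPo
  · rw [← InfiniteGalois.normal_iff_isGalois, h2]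
    exact hPn

section

variable [IsGalois M L]

theorem val_of_fixed (hB : Stab M B) (x : L) (hx : x ≠ 0) (hfix : ∀ n ∈ N hB, n x = x) :
    ∃ y : M, B.valuation (algebraMap M L y) = B.valuation x := by
  obtain ⟨E, _, _, hxE⟩ := exists_finiteGalois (M := M) x
  obtain ⟨E0, _, _, hE0⟩ := exists_E0 hB E
  have hx0 : x ∈ E0 := by
    rw [← InfiniteGalois.fixedField_fixingSubgroup E0, hE0, mem_fixedField_iff]
    intro σ hσ
    have h1 : E.fixingSubgroup ⊔ N hB ≤ MulAction.stabilizer (L ≃ₐ[M] L) x :=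
      sup_le (fun e he => (mem_fixingSubgroup_iff _ _).1 he x hxE) fun n hn => hfix n hn
    exact h1 hσ
  let x0 : E0 := ⟨x, hx0⟩
  have hx00 : x0 ≠ 0 := fun h => hx (congrArg Subtype.val h)
  have hc : ∀ σ : E0 ≃ₐ[M] E0, B.valuation (((σ x0 : E0) : L) / x) = 1 := by
    intro σ
    obtain ⟨σ', rfl⟩ := AlgEquiv.restrictNormalHom_surjective (F := M) (K₁ := E0) L σ
    have h1 : ((AlgEquiv.restrictNormalHom E0 σ' x0 : E0) : L) = σ' x :=
      AlgEquiv.restrictNormal_commutes σ' E0 x0
    rw [h1, map_div₀, val_smul hB, div_self ((map_ne_zero _).2 hx)]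
  obtain ⟨b, _, hb⟩ := exists_sum_unit hB E0 (hE0 ▸ le_sup_right) _ hc
  refine ⟨Algebra.trace M E0 (x0 * b), ?_⟩
  have h1 : algebraMap M L (Algebra.trace M E0 (x0 * b)) =
      x * ∑ σ : E0 ≃ₐ[M] E0, ((σ x0 : E0) : L) / x * (σ b : E0) := by
    rw [IsScalarTower.algebraMap_apply M E0 L, trace_eq_sum_automorphisms, map_sum, Finset.mul_sum]
    refine Finset.sum_congr rfl fun σ _ => ?_
    rw [map_mul, map_mul]
    change ((σ x0 : E0) : L) * ((σ b : E0) : L) = _
    field_simp
  rw [h1, map_mul, hb, mul_one]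

theorem residue_natCast_eq_zero_iff (l : ℕ) :
    ((l : ℕ) : ResidueField B) = 0 ↔ B.valuation (l : L) < 1 := by
  rw [← map_natCast (residue B), residue_eq_zero_iff, ValuationSubring.valuation_lt_one_iff]
  rfl

theorem natCast_ne_zero {l : ℕ} (hl : ((l : ℕ) : ResidueField B) ≠ 0) : ((l : ℕ) : L) ≠ 0 := by
  intro h
  apply hl
  rw [residue_natCast_eq_zero_iff, h, map_zero]
  exact zero_lt_one

/-- roots of unity of order prime to the residue characteristic inject into the residue field. -/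
theorem root_eq_one {l : ℕ} (hl : ((l : ℕ) : ResidueField B) ≠ 0) (ζ : L) (h1 : ζ ^ l = 1)
    (h2 : B.valuation (ζ - 1) < 1) : ζ = 1 := by
  by_contra hne
  have hl0 : l ≠ 0 := by
    rintro rfl
    exact hl (by simp)
  have hζv : B.valuation ζ = 1 := by
    have h3 : B.valuation ζ ^ l = 1 := by rw [← map_pow, h1, map_one]
    exact (pow_eq_one_iff_of_nonneg zero_le hl0).1 h3
  have h3 : ∑ i ∈ Finset.range l, ζ ^ i = 0 := by
    have h4 := geom_sum_mul ζ l
    rw [h1, sub_self] at h4
    exact (mul_eq_zero.1 h4).resolve_right (sub_ne_zero.2 hne)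
  have h5 : (l : L) = - ∑ i ∈ Finset.range l, (ζ ^ i - 1) := by
    rw [Finset.sum_sub_distrib, h3]
    simp
  apply hl
  rw [residue_natCast_eq_zero_iff, h5, Valuation.map_neg]
  refine Valuation.map_sum_lt _ one_ne_zero fun i _ => ?_
  have h6 := mul_geom_sum ζ i
  rw [← h6, map_mul]
  refine (mul_le_of_le_one_right' (a := B.valuation (ζ - 1)) ?_).trans_lt h2
  refine Valuation.map_sum_le _ fun j _ => ?_
  rw [map_pow, hζv, one_pow]

theorem tame_div [IsSepClosed L] (hB : Stab M B) (hmax : Max M B) {l : ℕ} (hlp : l.Prime)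
    (hl : ((l : ℕ) : ResidueField B) ≠ 0) (m : M) :
    ∃ m' : M, B.valuation (algebraMap M L m) = B.valuation (algebraMap M L m') ^ l := by
  by_contra hcon
  push Not at hcon
  have hm0 : algebraMap M L m ≠ 0 := by
    intro h
    apply hcon 0
    rw [h, map_zero, map_zero, map_zero, zero_pow hlp.ne_zero]
  have : NeZero ((l : ℕ) : L) := ⟨natCast_ne_zero hl⟩
  have : NeZero l := ⟨hlp.ne_zero⟩
  obtain ⟨x, hx⟩ := IsSepClosed.exists_pow_nat_eq (algebraMap M L m) l
  have hx0 : x ≠ 0 := by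
    rintro rfl
    rw [zero_pow hlp.ne_zero] at hx
    exact hm0 hx.symm
  have hroot : ∀ σ : L ≃ₐ[M] L, (σ x / x) ^ l = 1 := by
    intro σ
    rw [div_pow, ← map_pow, hx, AlgEquiv.commutes, div_self hm0]
  -- inertia fixes the roots of unity
  have hNζ : ∀ n ∈ N hB, ∀ ζ : L, ζ ^ l = 1 → n ζ = ζ := by
    intro n hn ζ hζ
    have hζ0 : ζ ≠ 0 := by
      rintro rfl
      rw [zero_pow hlp.ne_zero] at hζ
      exact zero_ne_one hζ
    have hζv : B.valuation ζ = 1 := by
      have h3 : B.valuation ζ ^ l = 1 := by rw [← map_pow, hζ, map_one]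
      exact (pow_eq_one_iff_of_nonneg zero_le hlp.ne_zero).1 h3
    have h1 : n ζ / ζ = 1 := by
      refine root_eq_one hl _ ?_ ?_
      · rw [div_pow, ← map_pow, hζ, map_one, div_one]
      · have h2 : n ζ / ζ - 1 = (n ζ - ζ) / ζ := by field_simp
        rw [h2, map_div₀, hζv, div_one]
        exact hn ζ ((mem_iff_le _).2 hζv.le)
    exact (div_eq_one_iff_eq hζ0).1 h1
  -- some inertia element moves `x`
  obtain ⟨n0, hn0, hne⟩ : ∃ n ∈ N hB, n x ≠ x := by
    by_contra h
    push Not at h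
    obtain ⟨y, hy⟩ := val_of_fixed hB x hx0 h
    apply hcon y
    rw [hy, ← map_pow, hx]
  let ζ0 := n0 x / x
  have hζ0 : ζ0 ≠ 1 := by
    intro h
    exact hne ((div_eq_one_iff_eq hx0).1 h)
  have hprim : IsPrimitiveRoot ζ0 l := by
    have := Fact.mk hlp
    have h1 : orderOf ζ0 = l := orderOf_eq_prime (hroot n0) hζ0
    have h2 := IsPrimitiveRoot.orderOf ζ0
    rwa [h1] at h2
  have hn0x : n0 x = ζ0 * x := by
    simp only [ζ0]
    field_simp
  have hn0p : ∀ i : ℕ, (n0 ^ i) x = ζ0 ^ i * x := by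
    intro i
    induction i with
    | zero => simp
    | succ i ih =>
      rw [pow_succ', AlgEquiv.mul_apply, ih, map_mul, map_pow, hNζ n0 hn0 ζ0 (hroot n0), hn0x,
        pow_succ]
      ring
  have hbot : M⟮x⟯ = ⊥ := by
    apply hmax
    intro σ
    have h1 : ((σ x / x)⁻¹) ^ l = 1 := by rw [inv_pow, hroot, inv_one]
    obtain ⟨i, _, hi⟩ := hprim.eq_pow_of_pow_eq_one h1
    refine ⟨n0 ^ i * σ, ?_, ?_⟩
    · rw [IntermediateField.mem_fixingSubgroup_iff]
      intro y hy
      have h2 : (n0 ^ i * σ) x = x := by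
        have h3 : σ x = (σ x / x) * x := by field_simp
        have h4 : (n0 ^ i) (σ x / x) = σ x / x := hNζ _ ((N hB).pow_mem hn0 i) _ (hroot σ)
        rw [AlgEquiv.mul_apply, h3, map_mul, h4, hn0p, hi]
        have h5 : σ x ≠ 0 := (map_ne_zero σ).2 hx0
        field_simp
      have h3 : M⟮x⟯ ≤ fixedField (Subgroup.zpowers (n0 ^ i * σ)) := by
        rw [adjoin_simple_le_iff, mem_fixedField_iff]
        intro f hf
        have h4 : Subgroup.zpowers (n0 ^ i * σ) ≤ MulAction.stabilizer (L ≃ₐ[M] L) x := by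
          rw [Subgroup.zpowers_le]
          exact h2
        exact h4 hf
      exact (mem_fixedField_iff _ _).1 (h3 hy) _ (Subgroup.mem_zpowers _)
    · have h2 : Cong B (n0 ^ i) 1 := (N hB).pow_mem hn0 i
      have h3 := Cong.mul_right hB h2 σ
      rw [one_mul] at h3
      exact h3.symm
  have hxM : x ∈ (⊥ : IntermediateField M L) := hbot ▸ mem_adjoin_simple_self M x
  rw [mem_bot] at hxM
  obtain ⟨y, hy⟩ := hxM
  apply hcon y
  rw [hy, ← map_pow, hx]

theorem tame_div' [IsSepClosed L] (hB : Stab M B) (hmax : Max M B) (n : ℕ) (hn0 : n ≠ 0)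
    (hn : ((n : ℕ) : ResidueField B) ≠ 0) (m : M) :
    ∃ m' : M, B.valuation (algebraMap M L m) = B.valuation (algebraMap M L m') ^ n := by
  induction n using Nat.recOnPrimePow generalizing m with
  | zero => exact absurd rfl hn0
  | one => exact ⟨m, by rw [pow_one]⟩
  | prime_pow_mul a p k hp hpa hk ih =>
    have ha0 : a ≠ 0 := by rintro rfl; simp at hn0
    have h1 : ((a : ℕ) : ResidueField B) ≠ 0 := by
      intro h; apply hn; rw [Nat.cast_mul, h, mul_zero]
    have h2 : ((p : ℕ) : ResidueField B) ≠ 0 := by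
      intro h; apply hn
      rw [Nat.cast_mul, Nat.cast_pow, h, zero_pow (by omega), zero_mul]
    obtain ⟨m1, hm1⟩ := ih ha0 h1 m
    have h3 : ∀ k : ℕ, ∃ m' : M, B.valuation (algebraMap M L m1) =
        B.valuation (algebraMap M L m') ^ (p ^ k) := by
      intro k
      induction k with
      | zero => exact ⟨m1, by simp⟩
      | succ k ih2 =>
        obtain ⟨m2, hm2⟩ := ih2
        obtain ⟨m3, hm3⟩ := tame_div hB hmax hp h2 m2
        exact ⟨m3, by rw [hm2, hm3, ← pow_mul, pow_succ, mul_comm]⟩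
    obtain ⟨m2, hm2⟩ := h3 k
    exact ⟨m2, by rw [hm1, hm2, ← pow_mul]⟩

/-- Under the maximality assumption the inertia group is the wild inertia group. -/
theorem wild [IsSepClosed L] (hB : Stab M B) (hmax : Max M B) (σ : L ≃ₐ[M] L) (hσ : σ ∈ N hB)
    (x : L) (hx : x ≠ 0) : B.valuation (σ x / x - 1) < 1 := by
  classical
  obtain ⟨E, _, _, hxE⟩ := exists_finiteGalois (M := M) x
  let x0 : E := ⟨x, hxE⟩
  let n := Fintype.card (E ≃ₐ[M] E)
  have hn0 : n ≠ 0 := Fintype.card_ne_zero
  have hnorm : B.valuation (algebraMap M L (Algebra.norm M x0)) = B.valuation x ^ n := by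
    rw [IsScalarTower.algebraMap_apply M E L, Algebra.norm_eq_prod_automorphisms, map_prod, map_prod]
    have h1 : ∀ τ : E ≃ₐ[M] E, B.valuation (algebraMap E L (τ x0)) = B.valuation x := by
      intro τ
      obtain ⟨τ', rfl⟩ := AlgEquiv.restrictNormalHom_surjective (F := M) (K₁ := E) L τ
      have h1 : ((AlgEquiv.restrictNormalHom E τ' x0 : E) : L) = τ' x :=
        AlgEquiv.restrictNormal_commutes τ' E x0
      change B.valuation ((AlgEquiv.restrictNormalHom E τ' x0 : E) : L) = _
      rw [h1, val_smul hB]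
    simp only [h1]
    rw [Finset.prod_const, Finset.card_univ]
  -- write `n = q ^ a * n'`
  obtain ⟨q, hq⟩ := ExpChar.exists (ResidueField B)
  obtain ⟨a, n', hn', hnn⟩ : ∃ a n' : ℕ, ((n' : ℕ) : ResidueField B) ≠ 0 ∧ n = q ^ a * n' := by
    cases hq with
    | zero =>
      exact ⟨0, n, by exact_mod_cast hn0, by simp⟩
    | prime hqp =>
      obtain ⟨a, n', h1, h2⟩ := Nat.exists_eq_pow_mul_and_not_dvd hn0 q hqp.ne_one
      exact ⟨a, n', by rwa [Ne, CharP.cast_eq_zero_iff (ResidueField B) q], h2⟩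
  have hn'0 : n' ≠ 0 := by rintro rfl; exact hn' (by simp)
  obtain ⟨m, hm⟩ := tame_div' hB hmax n' hn'0 hn' (Algebra.norm M x0)
  have hv : B.valuation (x ^ q ^ a) = B.valuation (algebraMap M L m) := by
    have h1 : B.valuation (x ^ q ^ a) ^ n' = B.valuation (algebraMap M L m) ^ n' := by
      rw [map_pow, ← pow_mul, ← hnn, ← hnorm, hm]
    exact (pow_left_inj₀ zero_le zero_le hn'0).1 h1
  have hm0 : algebraMap M L m ≠ 0 := by
    intro h
    rw [h, map_zero, map_pow] at hv
    exact hx ((map_eq_zero _).1 (eq_zero_of_pow_eq_zero hv))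
  let w := x ^ q ^ a / algebraMap M L m
  have hw : B.valuation w = 1 := by
    simp only [w]
    rw [map_div₀, hv, div_self ((map_ne_zero _).2 hm0)]
  have hw0 : w ≠ 0 := (map_ne_zero B.valuation).1 (by rw [hw]; exact one_ne_zero)
  have h1 : B.valuation (σ w - w) < 1 := hσ w ((mem_iff_le _).2 hw.le)
  have h2 : (σ x / x) ^ q ^ a = σ w / w := by
    simp only [w]
    rw [map_div₀, AlgEquiv.commutes, map_pow, div_pow]
    field_simp
  have h3 : B.valuation (σ x / x) = 1 := by
    rw [map_div₀, val_smul hB, div_self ((map_ne_zero _).2 hx)]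
  let r : B := ⟨σ x / x, (mem_iff_le _).2 h3.le⟩
  have h4 : residue B r ^ q ^ a = 1 := by
    rw [← sub_eq_zero, ← map_pow, ← map_one (residue B), ← map_sub, residue_eq_zero_iff,
      ValuationSubring.valuation_lt_one_iff]
    change B.valuation ((σ x / x) ^ q ^ a - 1) < 1
    have h5 : σ w / w - 1 = (σ w - w) / w := by field_simp
    rw [h2, h5, map_div₀, hw, div_one]
    exact h1
  have h5 : residue B r - 1 = 0 := by
    have h6 : (residue B r - 1) ^ q ^ a = 0 := by
      rw [sub_pow_expChar_pow, h4, one_pow, sub_self]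
    exact eq_zero_of_pow_eq_zero h6
  rw [← map_one (residue B), ← map_sub, residue_eq_zero_iff,
    ValuationSubring.valuation_lt_one_iff] at h5
  exact h5

/-- The finite quotients of the wild inertia group are `p`-groups. -/
theorem natCast_eq_zero_of_dvd_card [IsSepClosed L] (hB : Stab M B) (hmax : Max M B)
    (E : IntermediateField M L) [FiniteDimensional M E] [IsGalois M E] (l : ℕ) (hl : l.Prime)
    (hd : l ∣ Nat.card ((N hB).map (AlgEquiv.restrictNormalHom E))) :
    ((l : ℕ) : ResidueField B) = 0 := by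
  have := Fact.mk hl
  obtain ⟨τ, hτ⟩ := exists_prime_orderOf_dvd_card' l hd
  obtain ⟨n, hn, hnτ⟩ := τ.2
  have hτ1 : (τ : E ≃ₐ[M] E) ≠ 1 := by
    intro h
    have h1 : τ = 1 := Subtype.ext h
    rw [h1, orderOf_one] at hτ
    exact hl.one_lt.ne hτ
  have hres : ∀ (σ' : L ≃ₐ[M] L) (x : E),
      ((AlgEquiv.restrictNormalHom E σ' x : E) : L) = σ' x := fun σ' x =>
    AlgEquiv.restrictNormal_commutes σ' E x
  obtain ⟨y, hy⟩ : ∃ y : E, (τ : E ≃ₐ[M] E) y ≠ y := by
    by_contra h
    push Not at h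
    exact hτ1 (AlgEquiv.ext h)
  have hny : n y ≠ y := by
    intro h
    apply hy
    apply Subtype.ext
    rw [← hnτ, hres, h]
  have hnl : (n ^ l) (y : L) = y := by
    have h1 : AlgEquiv.restrictNormalHom E (n ^ l) = 1 := by
      rw [map_pow, hnτ, ← Subgroup.coe_pow, ← hτ, pow_orderOf_eq_one]
      rfl
    rw [← hres, h1, AlgEquiv.one_apply]
  let x : L := y - n y
  have hx : x ≠ 0 := sub_ne_zero.2 (Ne.symm hny)
  have hsum : ∑ i ∈ Finset.range l, (n ^ i) x = 0 := by
    have h1 : ∀ i, (n ^ i) x = (n ^ i) (y : L) - (n ^ (i + 1)) (y : L) := by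
      intro i
      simp only [x]
      rw [map_sub, pow_succ, AlgEquiv.mul_apply]
    simp only [h1]
    rw [Finset.sum_range_sub', hnl, pow_zero, AlgEquiv.one_apply, sub_self]
  have h2 : (l : L) = - ∑ i ∈ Finset.range l, ((n ^ i) x / x - 1) := by
    rw [Finset.sum_sub_distrib, ← Finset.sum_div, hsum]
    simp
  rw [residue_natCast_eq_zero_iff, h2, Valuation.map_neg]
  exact Valuation.map_sum_lt _ one_ne_zero fun i _ => wild hB hmax _ ((N hB).pow_mem hn i) x hx

end

end K144.Inert
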