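import Mathlib
import Groth.Agent.Hensel.K144.InertB
import Groth.Agent.Hensel.K144.CrossP

/-!
# The complement of the inertia group
-/

set_option autoImplicit false
universe u v

namespace K144.Inert

open IsLocalRing IntermediateField

/-! ### The Frattini-type quotient of a finite `p`-group with conjugation action -/

section Frat

variable (p : ℕ) {Γ : Type u} [Group Γ] (P : Subgroup Γ) [P.Normal]

/-- multiples of `p` in the abelianization. -/
def pMul : AddSubgroup (Additive (Abelianization P)) :=
  (nsmulAddMonoidHom p : Additive (Abelianization P) →+ Additive (Abelianization P)).range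

/-- `P^ab / p`. -/
abbrev Fq : Type u := Additive (Abelianization P) ⧸ pMul p P

/-- the projection. -/
def toFq (x : P) : Fq p P := QuotientAddGroup.mk (Additive.ofMul (Abelianization.of x))

omit [P.Normal] in
theorem toFq_mul (x y : P) : toFq p P (x * y) = toFq p P x + toFq p P y := by
  unfold toFq
  rw [map_mul, ofMul_mul, QuotientAddGroup.mk_add]

omit [P.Normal] in
theorem toFq_surjective : Function.Surjective (toFq p P) := by
  intro a
  obtain ⟨a, rfl⟩ := QuotientAddGroup.mk_surjective a
  obtain ⟨a, rfl⟩ := Additive.ofMul.surjective a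
  obtain ⟨x, rfl⟩ := QuotientGroup.mk_surjective a
  exact ⟨x, rfl⟩

/-- conjugation on `Fq`. -/
def conjFq (g : Γ) : Fq p P →+ Fq p P :=
  QuotientAddGroup.map _ _
    (MonoidHom.toAdditive (Abelianization.map (MulAut.conjNormal (H := P) g).toMonoidHom)) (by
      rintro _ ⟨a, rfl⟩
      refine ⟨MonoidHom.toAdditive (Abelianization.map (MulAut.conjNormal (H := P) g).toMonoidHom) a, ?_⟩
      rw [nsmulAddMonoidHom_apply, nsmulAddMonoidHom_apply, map_nsmul])

theorem conjFq_toFq (g : Γ) (x : P) :
    conjFq p P g (toFq p P x) = toFq p P (MulAut.conjNormal g x) := rfl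

@[reducible] noncomputable def actFq : DistribMulAction Γ (Fq p P) where
  smul g a := conjFq p P g a
  one_smul a := by
    obtain ⟨x, rfl⟩ := toFq_surjective p P a
    change conjFq p P 1 _ = _
    rw [conjFq_toFq]
    simp
  mul_smul g h a := by
    obtain ⟨x, rfl⟩ := toFq_surjective p P a
    change conjFq p P (g * h) _ = conjFq p P g (conjFq p P h _)
    rw [conjFq_toFq, conjFq_toFq, conjFq_toFq]
    simp
  smul_zero g := map_zero (conjFq p P g)
  smul_add g a b := map_add (conjFq p P g) a b

theorem conjFq_of_mem (g : Γ) (hg : g ∈ P) (a : Fq p P) : conjFq p P g a = a := by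
  obtain ⟨x, rfl⟩ := toFq_surjective p P a
  rw [conjFq_toFq]
  unfold toFq
  congr 2
  have h1 : MulAut.conjNormal g x = (⟨g, hg⟩ : P) * x * (⟨g, hg⟩ : P)⁻¹ :=
    Subtype.ext (MulAut.conjNormal_apply g x)
  rw [h1, map_mul, map_mul, map_inv, mul_comm (Abelianization.of (⟨g, hg⟩ : P)), mul_inv_cancel_right]

omit [P.Normal] in
theorem nsmul_Fq (a : Fq p P) : p • a = 0 := by
  obtain ⟨a, rfl⟩ := QuotientAddGroup.mk_surjective a
  rw [← QuotientAddGroup.mk_nsmul, QuotientAddGroup.eq_zero_iff]
  exact ⟨a, rfl⟩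

omit [P.Normal] in
theorem nontrivial_Fq [Finite Γ] [Fact p.Prime] (hP : IsPGroup p P) (hne : P ≠ ⊥) :
    Nontrivial (Fq p P) := by
  have hnt : Nontrivial P := (Subgroup.nontrivial_iff_ne_bot P).2 hne
  have h1 : Group.IsNilpotent P := hP.isNilpotent
  have h2 : commutator P < ⊤ := Group.IsSolvable.commutator_lt_top_of_nontrivial P
  have h3 : Nontrivial (Abelianization P) := by
    by_contra hcon
    rw [not_nontrivial_iff_subsingleton] at hcon
    apply h2.ne
    rw [← Abelianization.ker_of, eq_top_iff]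
    intro x _
    rw [MonoidHom.mem_ker]
    exact Subsingleton.elim _ _
  have h4 : IsPGroup p (Abelianization P) :=
    hP.of_surjective Abelianization.of (QuotientGroup.mk_surjective)
  have hfin : Finite (Abelianization P) := inferInstanceAs (Finite (P ⧸ commutator P))
  by_contra hcon
  rw [not_nontrivial_iff_subsingleton] at hcon
  have h5 : Function.Surjective fun a : Additive (Abelianization P) => p • a := by
    intro a
    have h6 : (QuotientAddGroup.mk a : Fq p P) = 0 := Subsingleton.elim _ _
    rw [QuotientAddGroup.eq_zero_iff] at h6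
    exact h6
  have hfin' : Finite (Additive (Abelianization P)) := hfin
  have h6 : Function.Injective fun a : Additive (Abelianization P) => p • a :=
    Finite.injective_iff_surjective.2 h5
  obtain ⟨g, hg⟩ := exists_ne (1 : Abelianization P)
  obtain ⟨k, hk⟩ := h4 g
  have h7 : ∀ k : ℕ, g ^ p ^ k = 1 → g = 1 := by
    intro k
    induction k with
    | zero => intro h; simpa using h
    | succ k ih =>
      intro h
      apply ih
      have h8 : p • (Additive.ofMul (g ^ p ^ k)) = p • (0 : Additive (Abelianization P)) := by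
        rw [← ofMul_pow, ← pow_mul, ← pow_succ, h, smul_zero]
        rfl
      have h9 := h6 h8
      exact h9
  exact hg (h7 k hk)

end Frat

section AS

variable {L : Type v} [Field L] [IsSepClosed L] {B : ValuationSubring L}

/-- Artin-Schreier equations are solvable in the residue field. -/
theorem exists_AS (p : ℕ) [Fact p.Prime] [CharP (ResidueField B) p] (x : ResidueField B) :
    ∃ y : ResidueField B, y ^ p - y = x := by
  obtain ⟨b, rfl⟩ := residue_surjective x
  have hp : p.Prime := Fact.out
  have hpv : B.valuation (p : L) < 1 := by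
    rw [← residue_natCast_eq_zero_iff]
    exact CharP.cast_eq_zero _ _
  -- the polynomial
  let f : Polynomial L := Polynomial.X ^ p - Polynomial.X - Polynomial.C (b : L)
  have hdeg : f.natDegree = p := by
    have h1 : f = Polynomial.X ^ p - (Polynomial.X + Polynomial.C (b : L)) := by simp only [f]; ring
    rw [h1]
    rw [Polynomial.natDegree_sub_eq_left_of_natDegree_lt]
    · exact Polynomial.natDegree_X_pow p
    · rw [Polynomial.natDegree_X_pow, Polynomial.natDegree_X_add_C]
      exact hp.one_lt
  have hder : f.derivative = Polynomial.C (p : L) * Polynomial.X ^ (p - 1) - 1 := by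
    simp only [f, Polynomial.derivative_sub, Polynomial.derivative_X_pow, Polynomial.derivative_X,
      Polynomial.derivative_C, sub_zero]
  -- `1 - p` is a unit
  have h1p : B.valuation (1 - (p : L)) = 1 := by
    have h := Valuation.map_sub_eq_of_lt_right (v := B.valuation) (x := (p : L)) (y := 1)
      (by rw [map_one]; exact hpv)
    rw [map_one] at h
    rw [Valuation.map_sub_swap]
    exact h
  have h1p0 : (1 - (p : L)) ≠ 0 := by
    intro h
    rw [h, map_zero] at h1p
    exact zero_ne_one h1p
  let β : L := p * b / (1 - p)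
  have hβ : B.valuation β < 1 := by
    simp only [β]
    rw [map_div₀, h1p, div_one, map_mul]
    exact (mul_le_of_le_one_right' (B.valuation_le_one b)).trans_lt hpv
  have hev : f.derivative.eval β ≠ 0 := by
    intro h
    rw [hder] at h
    simp only [Polynomial.eval_sub, Polynomial.eval_mul, Polynomial.eval_C, Polynomial.eval_pow,
      Polynomial.eval_X, Polynomial.eval_one] at h
    have h2 : (p : L) * β ^ (p - 1) = 1 := sub_eq_zero.1 h
    have h3 : B.valuation ((p : L) * β ^ (p - 1)) < 1 := by
      rw [map_mul, map_pow]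
      exact (mul_le_of_le_one_right' (pow_le_one' hβ.le _)).trans_lt hpv
    rw [h2, map_one] at h3
    exact lt_irrefl _ h3
  have hsep : f.Separable := by
    obtain ⟨g, hg⟩ := Polynomial.X_sub_C_dvd_sub_C_eval (a := β) (p := f.derivative)
    have h2 : Polynomial.X * f.derivative = Polynomial.C (p : L) * Polynomial.X ^ p - Polynomial.X := by
      rw [hder, mul_sub, mul_one]
      congr 1
      rw [mul_left_comm, ← pow_succ', Nat.sub_add_cancel hp.one_lt.le]
    have h3 : Polynomial.C (1 - (p : L)) * (Polynomial.X - Polynomial.C β) =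
        Polynomial.C (p : L) * f - Polynomial.X * f.derivative := by
      have h4 : Polynomial.C (1 - (p : L)) * Polynomial.C β = Polynomial.C ((p : L) * b) := by
        rw [← Polynomial.C_mul]
        congr 1
        simp only [β]
        field_simp
      rw [h2, mul_sub, h4]
      simp only [f, map_sub, map_one, map_mul]
      ring
    have h5 : Polynomial.X - Polynomial.C β = Polynomial.C (1 - (p : L))⁻¹ *
        (Polynomial.C (p : L) * f - Polynomial.X * f.derivative) := by
      rw [← h3, ← mul_assoc, ← Polynomial.C_mul, inv_mul_cancel₀ h1p0, map_one, one_mul]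
    rw [h5] at hg
    let e := f.derivative.eval β
    have hCe : Polynomial.C (e⁻¹) * Polynomial.C e = 1 := by
      rw [← Polynomial.C_mul, inv_mul_cancel₀ hev, map_one]
    refine ⟨-(Polynomial.C e⁻¹ * (Polynomial.C (1 - (p : L))⁻¹ * Polynomial.C (p : L) * g)),
      Polynomial.C e⁻¹ * (1 + Polynomial.C (1 - (p : L))⁻¹ * Polynomial.X * g), ?_⟩
    have h6 : f.derivative - Polynomial.C e = Polynomial.C (1 - (p : L))⁻¹ *
        (Polynomial.C (p : L) * f - Polynomial.X * f.derivative) * g := hg
    linear_combination Polynomial.C e⁻¹ * h6 + hCe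
  obtain ⟨y, hy⟩ := IsSepClosed.exists_root f (by
    intro h
    have h1 := Polynomial.natDegree_eq_zero_iff_degree_le_zero.2 h.le
    rw [hdeg] at h1
    exact hp.ne_zero h1) hsep
  have hy' : y ^ p - y = b := by
    have h2 : y ^ p - y - b = 0 := by
      have := hy
      simp only [f, Polynomial.IsRoot.def, Polynomial.eval_sub, Polynomial.eval_pow,
        Polynomial.eval_X, Polynomial.eval_C] at this
      exact this
    exact sub_eq_zero.1 h2
  have hyB : y ∈ B := by
    by_contra hcon
    rw [mem_iff_le, not_le] at hcon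
    have h2 : B.valuation y < B.valuation (y ^ p) := by
      rw [map_pow]
      exact lt_self_pow₀ hcon hp.one_lt
    have h3 : B.valuation (y ^ p - y) = B.valuation (y ^ p) := by
      rw [Valuation.map_sub_swap]
      exact Valuation.map_sub_eq_of_lt_right _ h2
    have h4 : B.valuation (y ^ p) ≤ 1 := by
      rw [← h3, hy']
      exact B.valuation_le_one b
    exact absurd (hcon.trans h2) (not_lt.2 h4)
  refine ⟨residue B ⟨y, hyB⟩, ?_⟩
  rw [← map_pow, ← map_sub]
  congr 1
  exact Subtype.ext hy'

end AS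

section Core

variable {M : Type u} {L : Type v} [Field M] [Field L] [Algebra M L] {B : ValuationSubring L}

theorem restrict_mem_iff [IsGalois M L] (hB : Stab M B) (E : IntermediateField M L)
    [FiniteDimensional M E] [IsGalois M E] (g : L ≃ₐ[M] L) :
    AlgEquiv.restrictNormalHom E g ∈ (N hB).map (AlgEquiv.restrictNormalHom E) ↔
      g ∈ E.fixingSubgroup ⊔ N hB := by
  rw [← IntermediateField.restrictNormalHom_ker]
  constructor
  · rintro ⟨n, hn, h⟩
    have h1 : g * n⁻¹ ∈ (AlgEquiv.restrictNormalHom (F := M) (K₁ := L) E).ker := by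
      rw [MonoidHom.mem_ker, map_mul, map_inv, h, mul_inv_cancel]
    have h2 : g = (g * n⁻¹) * n := by group
    rw [h2]
    exact Subgroup.mul_mem_sup h1 hn
  · intro hg
    have h1 : (AlgEquiv.restrictNormalHom (F := M) (K₁ := L) E).ker ⊔ N hB ≤
        ((N hB).map (AlgEquiv.restrictNormalHom E)).comap (AlgEquiv.restrictNormalHom E) := by
      refine sup_le ?_ (Subgroup.le_comap_map _ _)
      intro x hx
      rw [Subgroup.mem_comap, (MonoidHom.mem_ker).1 hx]
      exact one_mem _
    exact h1 hg

/-- an element of the residue field fixed by `ker π` of trace one. -/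
theorem exists_trace_one [IsGalois M L] (hB : Stab M B) (E0 : IntermediateField M L)
    [FiniteDimensional M E0] [IsGalois M E0] (hN : N hB ≤ E0.fixingSubgroup)
    (s : (E0 ≃ₐ[M] E0) → (L ≃ₐ[M] L)) (hs : ∀ τ, AlgEquiv.restrictNormalHom E0 (s τ) = τ) :
    letI := actB hB
    ∃ t : ResidueField B, (∀ g : L ≃ₐ[M] L, g ∈ E0.fixingSubgroup → g • t = t) ∧
      ∑ τ : E0 ≃ₐ[M] E0, s τ • t = 1 := by
  let _ := actB hB
  have hres : ∀ (σ' : L ≃ₐ[M] L) (x : E0),
      ((AlgEquiv.restrictNormalHom E0 σ' x : E0) : L) = σ' x := fun σ' x =>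
    AlgEquiv.restrictNormal_commutes σ' E0 x
  obtain ⟨b, hbB, hb⟩ := exists_sum_unit hB E0 hN (fun _ => 1) (fun _ => map_one _)
  simp only [one_mul] at hb
  let w : L := ∑ σ : E0 ≃ₐ[M] E0, ((σ b : E0) : L)
  have hw : w = algebraMap M L (Algebra.trace M E0 b) := by
    rw [IsScalarTower.algebraMap_apply M E0 L, trace_eq_sum_automorphisms, map_sum]
    rfl
  have hwv : B.valuation w = 1 := hb
  have hw0 : w ≠ 0 := (map_ne_zero B.valuation).1 (by rw [hwv]; exact one_ne_zero)
  have hgw : ∀ g : L ≃ₐ[M] L, g w = w := fun g => by rw [hw, AlgEquiv.commutes]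
  have htB : (b : L) / w ∈ B := by
    rw [mem_iff_le, map_div₀, hwv, div_one]
    exact (mem_iff_le _).1 hbB
  let t0 : B := ⟨(b : L) / w, htB⟩
  have hsm : ∀ (g : L ≃ₐ[M] L) (b : B), ((g • b : B) : L) = g b := fun g b => rfl
  refine ⟨residue B t0, fun g hg => ?_, ?_⟩
  · rw [← ResidueField.residue_smul]
    congr 1
    apply Subtype.ext
    rw [hsm]
    change g ((b : L) / w) = (b : L) / w
    rw [map_div₀, hgw, (IntermediateField.mem_fixingSubgroup_iff _ _).1 hg b b.2]
  · simp only [← ResidueField.residue_smul]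
    rw [← map_sum, ← map_one (residue B)]
    congr 1
    apply Subtype.ext
    have h1 := map_sum (ValuationSubring.subtype B) (fun τ => s τ • t0) Finset.univ
    refine Eq.trans h1 ?_
    have h2 : ∀ τ : E0 ≃ₐ[M] E0, ValuationSubring.subtype B (s τ • t0) = ((τ b : E0) : L) / w := by
      intro τ
      change (s τ) ((b : L) / w) = _
      rw [map_div₀, hgw, ← hres, hs]
    simp only [h2]
    rw [← Finset.sum_div]
    exact div_self hw0

theorem core [IsGalois M L] [IsSepClosed L] (hB : Stab M B) (hmax : Max M B) : N hB = ⊥ := by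
  classical
  rw [Subgroup.eq_bot_iff_forall]
  by_contra hcon
  push Not at hcon
  obtain ⟨σ0, hσ0, hne⟩ := hcon
  obtain ⟨x0, hx0⟩ : ∃ x : L, σ0 x ≠ x := by
    by_contra h
    push Not at h
    exact hne (AlgEquiv.ext h)
  obtain ⟨E, _, _, hxE⟩ := exists_finiteGalois (M := M) x0
  obtain ⟨E0, _, _, hE0⟩ := exists_E0 hB E
  let rE : (L ≃ₐ[M] L) →* (E ≃ₐ[M] E) := AlgEquiv.restrictNormalHom E
  have hrE : Function.Surjective rE := AlgEquiv.restrictNormalHom_surjective L
  have hres : ∀ (σ' : L ≃ₐ[M] L) (x : E), ((rE σ' x : E) : L) = σ' x := fun σ' x =>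
    AlgEquiv.restrictNormal_commutes σ' E x
  let P : Subgroup (E ≃ₐ[M] E) := (N hB).map rE
  have hPn : P.Normal := Subgroup.Normal.map inferInstance rE hrE
  have hPne : P ≠ ⊥ := by
    intro h
    have h1 : rE σ0 ∈ P := ⟨σ0, hσ0, rfl⟩
    rw [h, Subgroup.mem_bot] at h1
    apply hx0
    rw [← hres σ0 ⟨x0, hxE⟩, h1]
    rfl
  have hcard : Nat.card P ≠ 1 := by
    intro h
    exact hPne ((Subgroup.card_eq_one).1 h)
  obtain ⟨p, hp, hpd⟩ := Nat.exists_prime_and_dvd hcard
  have hpf : Fact p.Prime := ⟨hp⟩
  have hp0 : ((p : ℕ) : ResidueField B) = 0 := natCast_eq_zero_of_dvd_card hB hmax E p hp hpd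
  have hchar : CharP (ResidueField B) p := by
    obtain ⟨q, hq⟩ := CharP.exists (ResidueField B)
    have h1 : q ∣ p := (CharP.cast_eq_zero_iff (ResidueField B) q p).1 hp0
    rcases (Nat.dvd_prime hp).1 h1 with h2 | h2
    · have h3 := CharP.cast_eq_zero (ResidueField B) q
      rw [h2, Nat.cast_one] at h3
      exact absurd h3 one_ne_zero
    · exact h2 ▸ hq
  have hPp : IsPGroup p P := by
    have h1 : ∀ {q : ℕ}, q.Prime → q ∣ Nat.card P → q = p := by
      intro q hq hqd
      have h2 := natCast_eq_zero_of_dvd_card hB hmax E q hq hqd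
      rw [CharP.cast_eq_zero_iff (ResidueField B) p] at h2
      exact ((Nat.prime_dvd_prime_iff_eq hp hq).1 h2).symm
    exact IsPGroup.of_card (Nat.eq_prime_pow_of_unique_prime_dvd Nat.card_pos.ne' h1)
  have hnt : Nontrivial (Fq p P) := nontrivial_Fq p P hPp hPne
  let _ : Module (ZMod p) (Fq p P) := AddCommGroup.zmodModule (nsmul_Fq p P)
  let _ : DistribMulAction (E ≃ₐ[M] E) (Fq p P) := actFq p P
  let _ : DistribMulAction (L ≃ₐ[M] L) (Fq p P) := DistribMulAction.compHom _ rE
  have hact : ∀ (g : L ≃ₐ[M] L) (a : Fq p P), g • a = conjFq p P (rE g) a := fun g a => rfl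
  let _ := actB hB
  let π : (L ≃ₐ[M] L) →* (E0 ≃ₐ[M] E0) := AlgEquiv.restrictNormalHom E0
  have hπ : Function.Surjective π := AlgEquiv.restrictNormalHom_surjective L
  have hker : π.ker = E.fixingSubgroup ⊔ N hB := by
    rw [← hE0]
    exact IntermediateField.restrictNormalHom_ker E0
  have hkerP : ∀ g, g ∈ π.ker ↔ rE g ∈ P := by
    intro g
    rw [hker]
    exact (restrict_mem_iff hB E g).symm
  let f : (L ≃ₐ[M] L) → Fq p P := fun g => if h : rE g ∈ P then toFq p P ⟨rE g, h⟩ else 0
  have hf : ∀ g (h : rE g ∈ P), f g = toFq p P ⟨rE g, h⟩ := fun g h => dif_pos h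
  obtain ⟨t, ht, htr⟩ := exists_trace_one hB E0 (hE0 ▸ le_sup_right) (Function.surjInv hπ)
    (Function.surjInv_eq hπ)
  obtain ⟨a, ha, Y, hY⟩ := K144.CrossP.exists_crossed p (k := ResidueField B) (A := Fq p P)
    (exists_AS p) π hπ f
    (by
      intro g h hg hh
      rw [hkerP] at hg hh
      have hgh : rE (g * h) ∈ P := by rw [map_mul]; exact P.mul_mem hg hh
      rw [hf _ hgh, hf _ hg, hf _ hh, ← toFq_mul]
      congr 1
      exact Subtype.ext (map_mul rE g h))
    (by
      intro g h hh
      rw [hkerP] at hh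
      have hgh : rE (g * h * g⁻¹) ∈ P := by
        rw [map_mul, map_mul, map_inv]
        exact hPn.conj_mem _ hh _
      rw [hf _ hgh, hf _ hh, hact, conjFq_toFq]
      congr 1
      apply Subtype.ext
      rw [MulAut.conjNormal_apply]
      change rE (g * h * g⁻¹) = rE g * rE h * (rE g)⁻¹
      rw [map_mul, map_mul, map_inv])
    (by
      intro g hg a
      rw [hkerP] at hg
      exact conjFq_of_mem p P _ hg a)
    t
    (by
      intro g hg
      apply ht
      rw [hE0, ← hker]
      exact hg)
    htr
  have ha1 : a 1 = 0 := by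
    have h1 := ha 1 1
    rw [one_mul, one_smul] at h1
    simpa using h1
  let H' : Subgroup (L ≃ₐ[M] L) :=
    { carrier := {g | a g = 0}
      one_mem' := ha1
      mul_mem' := by
        intro g h hg hh
        change a (g * h) = 0
        rw [ha, show a g = 0 from hg, show a h = 0 from hh, smul_zero, add_zero]
      inv_mem' := by
        intro g hg
        have h1 := ha g⁻¹ g
        rw [inv_mul_cancel, ha1, show a g = 0 from hg, smul_zero, add_zero] at h1
        exact h1.symm }
  have hmemH : ∀ g, g ∈ H' ↔ a g = 0 := fun g => Iff.rfl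
  -- inertia acts trivially on the residue field
  have hNk : ∀ n ∈ N hB, ∀ y : ResidueField B, n • y = y := by
    intro n hn y
    obtain ⟨b, rfl⟩ := residue_surjective y
    rw [← ResidueField.residue_smul, ← sub_eq_zero, ← map_sub, residue_eq_zero_iff,
      ValuationSubring.valuation_lt_one_iff]
    exact hn b b.2
  have haN : ∀ n ∈ N hB, a n = f n := by
    intro n hn
    apply hY n _ fun y _ => hNk n hn y
    rw [hker]
    exact (le_sup_right : N hB ≤ _) hn
  -- `H'` is open
  have hopen : IsOpen (H' : Set (L ≃ₐ[M] L)) := by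
    choose b hb using fun y : ResidueField B => residue_surjective (R := B) y
    let S : Set L := (fun y => ((b y : B) : L)) '' (Y : Set (ResidueField B))
    have hSfin : S.Finite := (Finset.finite_toSet Y).image _
    have : Finite S := hSfin
    have hfd : FiniteDimensional M (adjoin M S) :=
      IntermediateField.finiteDimensional_adjoin fun x _ => Algebra.IsIntegral.isIntegral x
    have hle : (E ⊔ adjoin M S).fixingSubgroup ≤ H' := by
      intro g hg
      rw [IntermediateField.mem_fixingSubgroup_iff] at hg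
      rw [hmemH]
      have hgE : rE g = 1 := by
        ext x
        rw [hres]
        exact hg x ((le_sup_left : E ≤ E ⊔ adjoin M S) x.2)
      have hgP : rE g ∈ P := by rw [hgE]; exact one_mem _
      rw [hY g ((hkerP g).2 hgP), hf g hgP]
      · have h1 : (⟨rE g, hgP⟩ : P) = 1 := Subtype.ext hgE
        rw [h1]
        have h2 := toFq_mul p P 1 1
        rw [one_mul] at h2
        simpa using h2
      · intro y hy
        conv_lhs => rw [← hb y]
        rw [← ResidueField.residue_smul]
        conv_rhs => rw [← hb y]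
        congr 1
        apply Subtype.ext
        exact hg _ ((le_sup_right : adjoin M S ≤ E ⊔ adjoin M S)
          (subset_adjoin M S ⟨y, hy, rfl⟩))
    exact Subgroup.isOpen_mono hle (IntermediateField.fixingSubgroup_isOpen _)
  let H'' : ClosedSubgroup (L ≃ₐ[M] L) := ⟨H', Subgroup.isClosed_of_isOpen H' hopen⟩
  have h1 : (fixedField H').fixingSubgroup = H' := InfiniteGalois.fixingSubgroup_fixedField H''
  have hbot : fixedField H' = ⊥ := by
    apply hmax
    intro σ
    obtain ⟨⟨x, hx⟩, hxf⟩ := toFq_surjective p P (-(σ⁻¹ • a σ))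
    obtain ⟨n, hn, rfl⟩ := hx
    have h2 : a n = -(σ⁻¹ • a σ) := by
      rw [haN n hn, hf n ⟨n, hn, rfl⟩]
      exact hxf
    refine ⟨σ * n, ?_, ?_⟩
    · rw [h1, hmemH, ha, h2, smul_neg, smul_inv_smul, add_neg_cancel]
    · have h3 : Cong B 1 n := Cong.symm hn
      have h4 := Cong.mul_left hB h3 σ
      rwa [mul_one] at h4
  rw [hbot, IntermediateField.fixingSubgroup_bot] at h1
  obtain ⟨z, hz⟩ := exists_ne (0 : Fq p P)
  obtain ⟨⟨x, hx⟩, rfl⟩ := toFq_surjective p P z
  obtain ⟨n, hn, rfl⟩ := hx
  apply hz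
  have h2 : a n = 0 := by
    rw [← hmemH, ← h1]
    exact Subgroup.mem_top n
  rw [haN n hn, hf n ⟨n, hn, rfl⟩] at h2
  exact h2

end Core

section Final

variable {K : Type u} {L : Type v} [Field K] [Field L] [Algebra K L] {B : ValuationSubring L}

/-- `D` a closed subgroup of `Gal(L/K)` stabilizing `B`: there is a closed subgroup `H ≤ D` which meets
the inertia group trivially and supplements it. -/
theorem exists_closed_complement [IsGalois K L] [IsSepClosed L] (D : Subgroup (L ≃ₐ[K] L))
    (hD : IsClosed (D : Set (L ≃ₐ[K] L))) (hDB : ∀ σ ∈ D, ∀ b : L, b ∈ B → σ b ∈ B) :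
    ∃ H : Subgroup (L ≃ₐ[K] L), H ≤ D ∧ IsClosed (H : Set (L ≃ₐ[K] L)) ∧
      (∀ σ ∈ H, (∀ b ∈ B, B.valuation (σ b - b) < 1) → σ = 1) ∧
      ∀ σ ∈ D, ∃ τ ∈ H, ∀ b ∈ B, B.valuation (σ b - τ b) < 1 := by
  classical
  let S : Set (IntermediateField K L) := {M | M.fixingSubgroup ≤ D ∧
    ∀ σ ∈ D, ∃ τ ∈ M.fixingSubgroup, ∀ b ∈ B, B.valuation (σ b - τ b) < 1}
  let D' : ClosedSubgroup (L ≃ₐ[K] L) := ⟨D, hD⟩
  have hD0 : (fixedField D).fixingSubgroup = D := InfiniteGalois.fixingSubgroup_fixedField D'
  have hne : fixedField D ∈ S := by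
    refine ⟨hD0.le, fun σ hσ => ⟨σ, hD0.symm ▸ hσ, fun b _ => by simp⟩⟩
  obtain ⟨M, hM0, hMmax⟩ := zorn_le_nonempty₀ S (by
    intro c hcS hc M0 hM0
    refine ⟨sSup c, ⟨?_, ?_⟩, fun M hM => le_sSup hM⟩
    · exact (fixingSubgroup_antitone (le_sSup hM0)).trans (hcS hM0).1
    · intro σ hσ
      -- the closed sets of good `τ`
      let Z : c → Set (L ≃ₐ[K] L) := fun M =>
        (M.1.fixingSubgroup : Set (L ≃ₐ[K] L)) ∩ {τ | ∀ b ∈ B, B.valuation (σ b - τ b) < 1}
      have hclosed2 : IsClosed {τ : L ≃ₐ[K] L | ∀ b ∈ B, B.valuation (σ b - τ b) < 1} := by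
        have h1 : {τ : L ≃ₐ[K] L | ∀ b ∈ B, B.valuation (σ b - τ b) < 1} =
            ⋂ b ∈ B, {τ : L ≃ₐ[K] L | B.valuation (σ b - τ b) < 1} := by
          ext τ; simp
        rw [h1]
        refine isClosed_biInter fun b _ => ?_
        -- locally constant condition
        rw [← isOpen_compl_iff, isOpen_iff_mem_nhds]
        intro τ hτ
        have h2 : IsOpen ((fun g : L ≃ₐ[K] L => τ * g) ''
            (MulAction.stabilizer (L ≃ₐ[K] L) b : Set (L ≃ₐ[K] L))) :=
          (Homeomorph.mulLeft τ).isOpenMap _ (stabilizer_isOpen_of_isIntegral b)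
        refine Filter.mem_of_superset (h2.mem_nhds ⟨1, one_mem _, mul_one τ⟩) ?_
        rintro _ ⟨g, hg, rfl⟩
        have h3 : (τ * g) b = τ b := by
          rw [AlgEquiv.mul_apply]
          congr 1
        change ¬ B.valuation (σ b - (τ * g) b) < 1
        rw [h3]
        exact hτ
      have hZc : ∀ M, IsClosed (Z M) := fun M =>
        (InfiniteGalois.fixingSubgroup_isClosed M.1).inter hclosed2
      have hZne : ∀ M, (Z M).Nonempty := fun M => by
        obtain ⟨τ, h1, h2⟩ := (hcS M.2).2 σ hσ
        exact ⟨τ, h1, h2⟩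
      have : Nonempty c := ⟨⟨M0, hM0⟩⟩
      have hdir : Directed (· ⊇ ·) Z := by
        intro M1 M2
        rcases hc.total M1.2 M2.2 with h | h
        · exact ⟨M2, Set.inter_subset_inter_left _ (fixingSubgroup_antitone h), subset_rfl⟩
        · exact ⟨M1, subset_rfl, Set.inter_subset_inter_left _ (fixingSubgroup_antitone h)⟩
      obtain ⟨τ, hτ⟩ := IsCompact.nonempty_iInter_of_directed_nonempty_isCompact_isClosed Z hdir hZne
        (fun M => (hZc M).isCompact) hZc
      rw [Set.mem_iInter] at hτ
      refine ⟨τ, ?_, (hτ ⟨M0, hM0⟩).2⟩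
      rw [IntermediateField.mem_fixingSubgroup_iff]
      have h1 : sSup c ≤ fixedField (Subgroup.zpowers τ) := by
        refine sSup_le fun M hM => ?_
        rw [le_iff_le, Subgroup.zpowers_le]
        exact (hτ ⟨M, hM⟩).1
      intro x hx
      exact (mem_fixedField_iff _ _).1 (h1 hx) τ (Subgroup.mem_zpowers τ)) _ hne
  have hMS := hMmax.1
  have hB : Stab M B := by
    intro σ b hb
    refine hDB (σ.restrictScalars K) (hMS.1 ?_) b hb
    rw [IntermediateField.mem_fixingSubgroup_iff]
    intro x hx
    exact σ.commutes ⟨x, hx⟩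
  have hcore : N hB = ⊥ := by
    apply core hB
    intro M' hM'
    have h1 : M'.restrictScalars K ∈ S := by
      constructor
      · refine le_trans (fixingSubgroup_antitone ?_) hMS.1
        intro x hx
        exact M'.algebraMap_mem ⟨x, hx⟩
      · intro σ hσ
        obtain ⟨τ, hτ, h2⟩ := hMS.2 σ hσ
        obtain ⟨ρ, hρ, h3⟩ := hM' (IntermediateField.fixingSubgroupEquiv M ⟨τ, hτ⟩)
        refine ⟨ρ.restrictScalars K, ?_, ?_⟩
        · rw [IntermediateField.mem_fixingSubgroup_iff] at hρ ⊢
          exact hρ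
        · intro b hb
          have h4 := h3 b hb
          have h5 : σ b - ρ b = (σ b - τ b) + (τ b - ρ b) := by ring
          change B.valuation (σ b - ρ b) < 1
          rw [h5]
          exact (B.valuation.map_add _ _).trans_lt (max_lt (h2 b hb) h4)
    have h2 : M ≤ M'.restrictScalars K := by
      intro x hx
      exact M'.algebraMap_mem ⟨x, hx⟩
    have h3 := hMmax.2 h1 h2
    rw [eq_bot_iff]
    intro x hx
    rw [mem_bot]
    exact ⟨⟨x, h3 hx⟩, rfl⟩
  refine ⟨M.fixingSubgroup, hMS.1, InfiniteGalois.fixingSubgroup_isClosed M, ?_, hMS.2⟩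
  intro σ hσ hσN
  have h1 : IntermediateField.fixingSubgroupEquiv M ⟨σ, hσ⟩ ∈ N hB := by
    intro b hb
    exact hσN b hb
  rw [hcore, Subgroup.mem_bot] at h1
  have h2 := (IntermediateField.fixingSubgroupEquiv M).map_eq_one_iff.1 h1
  exact congrArg Subtype.val h2

open scoped Pointwise in
theorem mem_decomposition_iff (σ : L ≃ₐ[K] L) :
    σ ∈ B.decompositionSubgroup K ↔ ∀ b : L, b ∈ B ↔ σ b ∈ B := by
  constructor
  · intro h b
    have h1 : σ • B = B := h
    constructor
    · intro hb
      have h2 : σ • b ∈ σ • B := ValuationSubring.smul_mem_pointwise_smul σ b B hb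
      rw [h1] at h2
      exact h2
    · intro hb
      have h2 : σ • b ∈ σ • B := by rw [h1]; exact hb
      exact (ValuationSubring.smul_mem_pointwise_smul_iff).1 h2
  · intro h
    change σ • B = B
    ext x
    rw [ValuationSubring.mem_pointwise_smul_iff_inv_smul_mem, h (σ⁻¹ • x)]
    have h2 : σ (σ⁻¹ • x) = x := by
      change (σ * σ⁻¹) x = x
      rw [mul_inv_cancel]; rfl
    rw [h2]

end Final

end K144.Inert
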