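import Mathlib
import Groth.Agent.Etbc.H203.Newton
import Groth.Agent.S0526

/-!
# Krasner type lemmas over henselian discrete valuation rings

For a finite separable extension `L` of the fraction field of a henselian discrete valuation ring,
the integral closure is determined, among the discrete valuation rings finite over the base, by its
reduction modulo a high power of the uniformizer.
-/

set_option autoImplicit false
universe u

namespace K144.Krasner

open Polynomial Module IsLocalRing

/-- The rank of a finite free module is determined by the quotient by a nonunit. -/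
theorem finrank_eq_of_quot {A : Type u} [CommRing A] [Nontrivial A] {a : A} (ha : ¬ IsUnit a)
    (B C : Type u) [CommRing B] [CommRing C] [Algebra A B] [Algebra A C] [Module.Free A B]
    [Module.Finite A B] [Module.Free A C] [Module.Finite A C]
    (e : (B ⧸ Ideal.span {algebraMap A B a}) ≃ₐ[A] (C ⧸ Ideal.span {algebraMap A C a})) :
    finrank A B = finrank A C := by
  let I : Ideal A := Ideal.span {a}
  have hI : I ≠ ⊤ := by
    rw [Ne, Ideal.span_singleton_eq_top]; exact ha
  have : Nontrivial (A ⧸ I) := Ideal.Quotient.nontrivial_iff.2 hI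
  let key : ∀ (D : Type u) [CommRing D] [Algebra A D],
      TensorProduct A (A ⧸ I) D ≃ₗ[A] (D ⧸ Ideal.span {algebraMap A D a}) := fun D _ _ =>
    (TensorProduct.comm A (A ⧸ I) D).trans
      (((Algebra.TensorProduct.quotIdealMapEquivTensorQuot D I).restrictScalars A).symm.toLinearEquiv.trans
        (Ideal.quotientEquivAlgOfEq A (by simp [I, Ideal.map_span])).toLinearEquiv)
  have e1 : TensorProduct A (A ⧸ I) B ≃ₗ[A] TensorProduct A (A ⧸ I) C :=
    (key B).trans (e.toLinearEquiv.trans (key C).symm)
  have e2 : TensorProduct A (A ⧸ I) B ≃ₗ[A ⧸ I] TensorProduct A (A ⧸ I) C :=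
    LinearEquiv.extendScalarsOfSurjective Ideal.Quotient.mk_surjective e1
  rw [← Module.finrank_baseChange (R := A ⧸ I) (S := A) (M' := B),
    ← Module.finrank_baseChange (R := A ⧸ I) (S := A) (M' := C)]
  exact e2.finrank_eq

/-- A discrete valuation ring finite over a discrete valuation ring contains it. -/
theorem injective_of_finite (A : Type u) [CommRing A] [IsDomain A] [IsDiscreteValuationRing A]
    (C : Type u) [CommRing C] [IsDomain C] [IsDiscreteValuationRing C] [Algebra A C]
    [Module.Finite A C] : Function.Injective (algebraMap A C) := by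
  rw [injective_iff_map_eq_zero]
  intro a ha
  by_contra h0
  -- then `A → C` kills a nonzero ideal, so `C` is integral over a quotient which is Artinian
  obtain ⟨ϖ, hϖ⟩ := IsDiscreteValuationRing.exists_irreducible A
  obtain ⟨n, hn⟩ := IsDiscreteValuationRing.associated_pow_irreducible h0 hϖ
  have h1 : algebraMap A C ϖ = 0 := by
    have h2 : algebraMap A C (ϖ ^ n) = 0 := by
      obtain ⟨u, hu⟩ := hn
      rw [← hu, map_mul, ha, zero_mul]
    rw [map_pow] at h2
    exact eq_zero_of_pow_eq_zero h2
  have hker : maximalIdeal A ≤ RingHom.ker (algebraMap A C) := by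
    rw [hϖ.maximalIdeal_eq, Ideal.span_singleton_le_iff_mem, RingHom.mem_ker]
    exact h1
  have hker2 : RingHom.ker (algebraMap A C) = maximalIdeal A :=
    ((maximalIdeal.isMaximal A).eq_of_le (RingHom.ker_ne_top _) hker).symm
  -- the zero ideal of `C` lies over the maximal ideal, hence is maximal
  have hmax : (⊥ : Ideal C).IsMaximal := by
    have : Algebra.IsIntegral A C := inferInstance
    refine Ideal.isMaximal_of_isIntegral_of_isMaximal_comap (R := A) (⊥ : Ideal C) ?_
    change (RingHom.ker (algebraMap A C)).IsMaximal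
    rw [hker2]
    infer_instance
  exact IsDiscreteValuationRing.not_isField C (Ring.isField_iff_maximal_bot.2 hmax)

/-- Roots transfer along isomorphisms modulo a high power of the uniformizer. -/
theorem exists_root_of_quot {A : Type u} [CommRing A] (ϖ : A) (f : A[X])
    (B C : Type u) [CommRing B] [CommRing C] [Algebra A B] [Algebra A C]
    [HenselianRing C (Ideal.span {algebraMap A C ϖ})] (β b' : B) (hβ : aeval β f = 0)
    (r m : ℕ) (hb' : aeval β (derivative f) * b' = algebraMap A B (ϖ ^ r)) (hm : 2 * r + 1 < m)
    (e : (B ⧸ Ideal.span {algebraMap A B (ϖ ^ m)}) ≃ₐ[A]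
      (C ⧸ Ideal.span {algebraMap A C (ϖ ^ m)})) :
    ∃ y : C, aeval y f = 0 := by
  obtain ⟨c, hc⟩ := Ideal.Quotient.mkₐ_surjective A (Ideal.span {algebraMap A C (ϖ ^ m)})
    (e (Ideal.Quotient.mkₐ A _ β))
  obtain ⟨w, hw⟩ := Ideal.Quotient.mkₐ_surjective A (Ideal.span {algebraMap A C (ϖ ^ m)})
    (e (Ideal.Quotient.mkₐ A _ b'))
  have h1 : Ideal.Quotient.mkₐ A (Ideal.span {algebraMap A C (ϖ ^ m)}) (aeval c f) = 0 := by
    rw [← aeval_algHom_apply, hc]
    change aeval ((e.toAlgHom.comp (Ideal.Quotient.mkₐ A _)) β) f = 0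
    rw [aeval_algHom_apply, hβ, map_zero]
  have h2 : Ideal.Quotient.mkₐ A (Ideal.span {algebraMap A C (ϖ ^ m)})
      (aeval c (derivative f) * w - algebraMap A C (ϖ ^ r)) = 0 := by
    rw [map_sub, map_mul, ← aeval_algHom_apply, hc, hw]
    change aeval ((e.toAlgHom.comp (Ideal.Quotient.mkₐ A _)) β) (derivative f) *
      ((e.toAlgHom.comp (Ideal.Quotient.mkₐ A _)) b') - _ = 0
    rw [aeval_algHom_apply, ← map_mul, hb', AlgHom.commutes, AlgHom.commutes, sub_self]
  rw [Ideal.Quotient.mkₐ_eq_mk, Ideal.Quotient.eq_zero_iff_mem, Ideal.mem_span_singleton] at h1 h2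
  obtain ⟨z1, hz1⟩ := h1
  obtain ⟨z2, hz2⟩ := h2
  set π := algebraMap A C ϖ with hπ
  have hjac : Ideal.span {π} ≤ Ideal.jacobson ⊥ := HenselianRing.jac
  have hu : IsUnit (1 + π ^ (m - r) * z2) := by
    have hmem : π ^ (m - r) * z2 ∈ Ideal.jacobson (⊥ : Ideal C) := by
      refine Ideal.mul_mem_right _ _ (hjac ?_)
      exact Ideal.pow_mem_of_mem _ (Ideal.mem_span_singleton_self π) _ (by omega)
    have := (Ideal.mem_jacobson_bot.1 hmem) 1
    rwa [mul_one, add_comm] at this
  obtain ⟨v, hv⟩ := hu.exists_right_inv
  obtain ⟨m', hm'⟩ : ∃ m', m = 2 * r + (m' + 1) := ⟨m - 2 * r - 1, by omega⟩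
  have hmr : π ^ m = π ^ r * π ^ (m - r) := by rw [← pow_add]; congr 1; omega
  have hdd : (derivative (f.map (algebraMap A C))).eval c = aeval c (derivative f) := by
    rw [derivative_map, eval_map_algebraMap]
  have h3 : π ^ r = (derivative (f.map (algebraMap A C))).eval c * (w * v) := by
    rw [hdd]
    have h4 : aeval c (derivative f) * w = π ^ r * (1 + π ^ (m - r) * z2) := by
      rw [map_pow, map_pow, ← hπ] at hz2
      rw [mul_add, mul_one, ← mul_assoc, ← hmr, ← hz2]
      ring
    rw [← mul_assoc, h4, mul_assoc, hv, mul_one]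
  obtain ⟨y, -, hy⟩ := Groth.Agent.Etbc.H203.Newton.exists_root_of_dvd (π := π)
    (f.map (algebraMap A C)) c (w * v) z1 r m' h3 (by
      rw [eval_map_algebraMap, hz1, map_pow, ← hπ, ← hm'])
  exact ⟨y, by rwa [eval_map_algebraMap] at hy⟩

/-- Integral closures embed into each other compatibly with an isomorphism of the ambient fields. -/
theorem nonempty_algEquiv_of_field (A : Type u) [CommRing A] [IsDomain A]
    (K : Type u) [Field K] [Algebra A K] [IsFractionRing A K]
    (L : Type u) [Field L] [Algebra K L] [Algebra A L] [IsScalarTower A K L]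
    (B : Type u) [CommRing B] [Algebra A B] [Algebra B L] [IsScalarTower A B L]
    [IsIntegralClosure B A L]
    (M : Type u) [Field M] [Algebra K M] [Algebra A M] [IsScalarTower A K M]
    (C : Type u) [CommRing C] [Algebra A C] [Algebra C M] [IsScalarTower A C M]
    [IsIntegralClosure C A M] (ε : L ≃ₐ[K] M) : Nonempty (B ≃ₐ[A] C) := by
  let εA : L ≃ₐ[A] M := ε.restrictScalars A
  algebraize [(εA.symm : M ≃+* L).toRingHom.comp (algebraMap C M)]
  have hCL : ∀ c : C, algebraMap C L c = εA.symm (algebraMap C M c) := fun c => rfl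
  have : IsScalarTower A C L := IsScalarTower.of_algebraMap_eq fun a => by
    rw [hCL, ← IsScalarTower.algebraMap_apply A C M, AlgEquiv.commutes]
  have hic : IsIntegralClosure C A L :=
    { algebraMap_injective := by
        intro x y hxy
        rw [hCL, hCL] at hxy
        exact IsIntegralClosure.algebraMap_injective C A M (εA.symm.injective hxy)
      isIntegral_iff := by
        intro x
        constructor
        · intro hx
          have h1 : IsIntegral A (εA x) := hx.map εA
          obtain ⟨c, hc⟩ := (IsIntegralClosure.isIntegral_iff (A := C)).1 h1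
          exact ⟨c, by rw [hCL, hc, AlgEquiv.symm_apply_apply]⟩
        · rintro ⟨c, rfl⟩
          rw [hCL]
          exact ((IsIntegralClosure.isIntegral_iff (A := C)).2 ⟨c, rfl⟩).map εA.symm }
  exact ⟨IsIntegralClosure.equiv A B L C⟩

/-- **Krasner's lemma for discrete valuation rings.** -/
theorem exists_bound
    (A : Type u) [CommRing A] [IsDomain A] [IsDiscreteValuationRing A]
    [HenselianRing A (maximalIdeal A)] (ϖ : A) (hϖ : Irreducible ϖ)
    (K : Type u) [Field K] [Algebra A K] [IsFractionRing A K]
    (L : Type u) [Field L] [Algebra K L] [Algebra A L] [IsScalarTower A K L]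
    [FiniteDimensional K L] [Algebra.IsSeparable K L]
    (B : Type u) [CommRing B] [Algebra A B] [Algebra B L] [IsScalarTower A B L]
    [IsIntegralClosure B A L] :
    ∃ m₀ : ℕ, 0 < m₀ ∧ ∀ (C : Type u) [CommRing C] [IsDomain C] [IsDiscreteValuationRing C]
      [Algebra A C] [Module.Finite A C],
      Nonempty (B ≃ₐ[A] C) ↔ ∃ m : ℕ, m₀ < m ∧
        Nonempty ((B ⧸ Ideal.span {algebraMap A B (ϖ ^ m)}) ≃ₐ[A]
          (C ⧸ Ideal.span {algebraMap A C (ϖ ^ m)})) := by
  have hAL : Function.Injective (algebraMap A L) := by
    rw [IsScalarTower.algebraMap_eq A K L]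
    exact (algebraMap K L).injective.comp (IsFractionRing.injective A K)
  have hBL : Function.Injective (algebraMap B L) := IsIntegralClosure.algebraMap_injective B A L
  have hAB : Function.Injective (algebraMap A B) := by
    refine Function.Injective.of_comp (f := algebraMap B L) ?_
    rw [← RingHom.coe_comp, ← IsScalarTower.algebraMap_eq]
    exact hAL
  have : IsDomain B := hBL.isDomain (algebraMap B L)
  have : Module.IsTorsionFree A L := by
    rw [Module.isTorsionFree_iff_algebraMap_injective]
    exact hAL
  have : Module.Finite A B := IsIntegralClosure.finite A K L B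
  have : Module.Free A B := IsIntegralClosure.module_free A K L B
  -- a primitive element which is integral
  obtain ⟨α, hα⟩ := Field.exists_primitive_element K L
  have hαalg : IsAlgebraic A α := (IsFractionRing.isAlgebraic_iff A K L).2
    (Algebra.IsAlgebraic.isAlgebraic α)
  obtain ⟨d, hd0, hdα⟩ := hαalg.exists_integral_multiple
  obtain ⟨β, hβ⟩ := (IsIntegralClosure.isIntegral_iff (A := B)).1 hdα
  have hβint : IsIntegral A β := Algebra.IsIntegral.isIntegral β
  have hβintK : IsIntegral K (algebraMap B L β) := Algebra.IsIntegral.isIntegral _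
  have htop : Algebra.adjoin K {algebraMap B L β} = ⊤ := by
    have h1 : IntermediateField.adjoin K {algebraMap B L β} = ⊤ := by
      rw [eq_top_iff, ← hα, IntermediateField.adjoin_simple_le_iff]
      have h2 : α = (algebraMap A K d)⁻¹ • algebraMap B L β := by
        rw [hβ, ← algebraMap_smul K d α, smul_smul, inv_mul_cancel₀, one_smul]
        rwa [Ne, map_eq_zero_iff _ (IsFractionRing.injective A K)]
      rw [h2]
      exact (IntermediateField.adjoin K {algebraMap B L β}).smul_mem
        (IntermediateField.mem_adjoin_simple_self K _)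
    rw [← IntermediateField.adjoin_simple_toSubalgebra_of_isAlgebraic hβintK.isAlgebraic, h1]
    rfl
  let f : A[X] := minpoly A β
  have hfK : minpoly K (algebraMap B L β) = f.map (algebraMap A K) :=
    minpoly.isIntegrallyClosed_eq_field_fractions K L hβint
  have hδ : aeval β (derivative f) ≠ 0 := by
    intro h0
    have h1 : aeval (algebraMap B L β) (derivative (minpoly K (algebraMap B L β))) = 0 := by
      rw [hfK, derivative_map, aeval_map_algebraMap, aeval_algebraMap_apply, h0, map_zero]
    exact (Algebra.IsSeparable.isSeparable K (algebraMap B L β)).aeval_derivative_ne_zero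
      (minpoly.aeval _ _) h1
  obtain ⟨r, b', hb'⟩ : ∃ (r : ℕ) (b' : B),
      aeval β (derivative f) * b' = algebraMap A B (ϖ ^ r) := by
    have h1 : (Ideal.span {aeval β (derivative f)}).comap (algebraMap A B) ≠ ⊥ :=
      Ideal.comap_ne_bot_of_integral_mem hδ (Ideal.mem_span_singleton_self _)
        (Algebra.IsIntegral.isIntegral _)
    obtain ⟨a, ha, ha0⟩ := Submodule.exists_mem_ne_zero_of_ne_bot h1
    rw [Ideal.mem_comap, Ideal.mem_span_singleton] at ha
    obtain ⟨b, hb⟩ := ha
    obtain ⟨r, u, hu⟩ := IsDiscreteValuationRing.associated_pow_irreducible ha0 hϖ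
    exact ⟨r, b * algebraMap A B u, by rw [← mul_assoc, ← hb, ← map_mul, hu]⟩
  refine ⟨2 * r + 1, by omega, fun C _ _ _ _ _ => ⟨?_, ?_⟩⟩
  · rintro ⟨e⟩
    refine ⟨2 * r + 2, by omega, ⟨Ideal.quotientEquivAlg _ _ e ?_⟩⟩
    rw [Ideal.map_span, Set.image_singleton]
    congr 2
    exact (e.commutes _).symm
  · rintro ⟨m, hm, ⟨e⟩⟩
    have hAC : Function.Injective (algebraMap A C) := injective_of_finite A C
    have : FaithfulSMul A C := (faithfulSMul_iff_algebraMap_injective A C).2 hAC
    have : Module.IsTorsionFree A C := by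
      rw [Module.isTorsionFree_iff_algebraMap_injective]
      exact hAC
    have : Module.Free A C := inferInstance
    have hhens : HenselianRing C (Ideal.span {algebraMap A C ϖ}) := by
      have h1 : HenselianRing C (Ideal.map (algebraMap A C) (maximalIdeal A)) :=
        Groth.Agent.S0526.result A (maximalIdeal A) C
      rwa [hϖ.maximalIdeal_eq, Ideal.map_span, Set.image_singleton] at h1
    obtain ⟨y, hy⟩ := exists_root_of_quot ϖ f B C β b' (minpoly.aeval A β) r m hb' hm e
    have hrk : finrank A B = finrank A C :=
      finrank_eq_of_quot (a := ϖ ^ m) (fun h => hϖ.not_isUnit (isUnit_of_mul_isUnit_left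
        (y := ϖ ^ (m - 1)) (by rwa [← pow_succ', Nat.sub_add_cancel (by omega)]))) B C e
    let M := FractionRing C
    have hAM : Function.Injective (algebraMap A M) := by
      rw [IsScalarTower.algebraMap_eq A C M]
      exact (IsFractionRing.injective C M).comp hAC
    let _ : Algebra K M := (IsFractionRing.lift hAM : K →+* M).toAlgebra
    have : IsScalarTower A K M := IsScalarTower.of_algebraMap_eq fun a =>
      (IsFractionRing.lift_algebraMap hAM a).symm
    have hrkM : finrank K M = finrank A C := IsFractionRing.finrank_eq A K C M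
    have hrkL : finrank A B = finrank K L := IsIntegralClosure.rank A K L B
    have hpos : 0 < finrank K L := Module.finrank_pos
    have hMfin : FiniteDimensional K M := FiniteDimensional.of_finrank_pos (by omega)
    let pb := PowerBasis.ofAdjoinEqTop hβintK htop
    have hgen : pb.gen = algebraMap B L β := PowerBasis.ofAdjoinEqTop_gen _ _
    let φ : L →ₐ[K] M := pb.lift (algebraMap C M y) (by
      rw [hgen, hfK, aeval_map_algebraMap, aeval_algebraMap_apply, hy, map_zero])
    have hφ : Function.Bijective φ := by
      have hinj : Function.Injective φ := φ.toRingHom.injective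
      refine ⟨hinj, ?_⟩
      exact (LinearMap.injective_iff_surjective_of_finrank_eq_finrank
        (f := φ.toLinearMap) (by omega)).1 hinj
    exact nonempty_algEquiv_of_field A K L B M C (AlgEquiv.ofBijective φ hφ)

end K144.Krasner
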