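import Mathlib.RingTheory.Smooth.Basic
import Mathlib.RingTheory.Flat.EquationalCriterion
import Mathlib.RingTheory.Nakayama
import Mathlib.RingTheory.Henselian
import Mathlib.RingTheory.Ideal.Quotient.Operations

/-!
Surjections `H → B` of `A`-algebras with kernel in `IH`: if the truncations of `B` are formally smooth, the
kernel lies in all `IⁿH`; if `B` is flat and the kernel is finitely generated (and `IH` is in the Jacobson
radical), the kernel vanishes.
-/

set_option autoImplicit false

universe u v w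

namespace K144.Trunc

/-- A surjection onto a formally smooth algebra which is injective modulo a nilpotent ideal of the base
is injective. -/
theorem ker_eq_bot_of_formallySmooth {A : Type u} {H : Type v} {B : Type w} [CommRing A] [CommRing H]
    [CommRing B] [Algebra A H] [Algebra A B] [Algebra.FormallySmooth A B] (Φ : H →ₐ[A] B)
    (hs : Function.Surjective Φ) (I : Ideal A) (hI : IsNilpotent I)
    (hker : RingHom.ker Φ ≤ I.map (algebraMap A H)) : RingHom.ker Φ = ⊥ := by
  set K : Ideal H := RingHom.ker Φ with hK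
  set IH : Ideal H := I.map (algebraMap A H) with hIH
  let p : (H ⧸ K ^ 2) →ₐ[A] B := Ideal.Quotient.liftₐ (K ^ 2) Φ (fun a ha => by
    have : a ∈ K := Ideal.pow_le_self two_ne_zero ha
    exact this)
  have hp : Function.Surjective p := fun b => by
    obtain ⟨h, rfl⟩ := hs b
    exact ⟨Ideal.Quotient.mk _ h, rfl⟩
  have hpker : RingHom.ker p = K.map (Ideal.Quotient.mk (K ^ 2)) := by
    ext x
    obtain ⟨h, rfl⟩ := Ideal.Quotient.mk_surjective x
    constructor
    · intro hx
      exact Ideal.mem_map_of_mem _ (show h ∈ K from hx)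
    · intro hx
      obtain ⟨y, hy, hyh⟩ := (Ideal.mem_map_iff_of_surjective _ Ideal.Quotient.mk_surjective).1 hx
      rw [← hyh]
      exact hy
  have hpnil : IsNilpotent (RingHom.ker (p : (H ⧸ K ^ 2) →+* B)) := by
    refine ⟨2, ?_⟩
    change (RingHom.ker p) ^ 2 = 0
    rw [hpker, ← Ideal.map_pow, Ideal.map_quotient_self, Ideal.zero_eq_bot]
  let σ : B →ₐ[A] (H ⧸ K ^ 2) :=
    Algebra.FormallySmooth.liftOfSurjective (AlgHom.id A B) p hp hpnil
  have hσ : ∀ b, p (σ b) = b := fun b =>
    Algebra.FormallySmooth.liftOfSurjective_apply (AlgHom.id A B) p hp hpnil b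
  have h1 : K ≤ IH * K := by
    intro x hx
    -- `D h = π h - σ (Φ h)` is `A`-linear with values in `K/K²`
    let D : H →ₗ[A] (H ⧸ K ^ 2) := (Ideal.Quotient.mkₐ A (K ^ 2)).toLinearMap -
      (σ.comp Φ).toLinearMap
    have hD : ∀ h, D h ∈ K.map (Ideal.Quotient.mk (K ^ 2)) := by
      intro h
      rw [← hpker, RingHom.mem_ker]
      change p (Ideal.Quotient.mk _ h - σ (Φ h)) = 0
      rw [map_sub, hσ]
      exact sub_self _
    have hDx : D x = Ideal.Quotient.mk (K ^ 2) x := by
      change Ideal.Quotient.mk _ x - σ (Φ x) = _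
      rw [show Φ x = 0 from hx, map_zero, sub_zero]
    have hxI : x ∈ IH := hker hx
    have h2 : ∀ y ∈ IH, D y ∈ (IH * K).map (Ideal.Quotient.mk (K ^ 2)) := by
      intro y hy
      have hy' : y ∈ (I • (⊤ : Submodule A H)) := by
        rw [Ideal.smul_top_eq_map]; exact hy
      clear hy
      induction hy' using Submodule.smul_induction_on' with
      | smul a ha n _ =>
        rw [map_smul]
        have h3 : a • D n = Ideal.Quotient.mk (K ^ 2) (algebraMap A H a) * D n := by
          rw [Algebra.smul_def]; rfl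
        rw [h3, Ideal.map_mul]
        exact Ideal.mul_mem_mul (Ideal.mem_map_of_mem _ (Ideal.mem_map_of_mem _ ha)) (hD n)
      | add y hy z hz ihy ihz =>
        rw [map_add]
        exact Ideal.add_mem _ ihy ihz
    have h4 := h2 x hxI
    rw [hDx] at h4
    obtain ⟨y, hy, hyx⟩ := (Ideal.mem_map_iff_of_surjective _ Ideal.Quotient.mk_surjective).1 h4
    have h5 : y - x ∈ K ^ 2 := Ideal.Quotient.eq.1 hyx
    have h6 : K ^ 2 ≤ IH * K := by
      rw [pow_two]
      exact Ideal.mul_mono_left hker
    have h7 : x = y - (y - x) := by ring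
    rw [h7]
    exact Ideal.sub_mem _ hy (h6 h5)
  have h2 : ∀ n : ℕ, K ≤ IH ^ n * K := by
    intro n
    induction n with
    | zero => simp
    | succ n ih =>
      refine h1.trans ?_
      rw [pow_succ', mul_assoc]
      exact Ideal.mul_mono_right ih
  obtain ⟨n, hn⟩ := hI
  rw [eq_bot_iff]
  refine (h2 n).trans ?_
  rw [hIH, ← Ideal.map_pow, hn]
  simp

/-- If all truncations of `B` are formally smooth, a surjection `H → B` with kernel in `IH` has its
kernel in all `IⁿH`. -/
theorem ker_le_map_pow {A : Type u} {H : Type v} {B : Type w} [CommRing A] [CommRing H]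
    [CommRing B] [Algebra A H] [Algebra A B] (Φ : H →ₐ[A] B)
    (hs : Function.Surjective Φ) (I : Ideal A)
    (hker : RingHom.ker Φ ≤ I.map (algebraMap A H)) (n : ℕ)
    (h : Algebra.FormallySmooth (A ⧸ I ^ n) (B ⧸ (I ^ n).map (algebraMap A B))) :
    RingHom.ker Φ ≤ (I ^ n).map (algebraMap A H) := by
  rcases Nat.eq_zero_or_pos n with rfl | hn
  · rw [pow_zero, Ideal.one_eq_top, Ideal.map_top]
    exact le_top
  have hle : (I ^ n).map (algebraMap A H) ≤
      ((I ^ n).map (algebraMap A B)).comap (Φ : H →+* B) := by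
    rw [← Ideal.map_le_iff_le_comap, Ideal.map_map, AlgHom.comp_algebraMap]
  let Φn : (H ⧸ (I ^ n).map (algebraMap A H)) →ₐ[A ⧸ I ^ n] (B ⧸ (I ^ n).map (algebraMap A B)) :=
    { Ideal.quotientMap _ (Φ : H →+* B) hle with
      commutes' := fun a => by
        obtain ⟨a, rfl⟩ := Ideal.Quotient.mk_surjective a
        change Ideal.Quotient.mk _ (Φ (algebraMap A H a)) = Ideal.Quotient.mk _ (algebraMap A B a)
        rw [Φ.commutes] }
  have hΦn : ∀ x, Φn (Ideal.Quotient.mk _ x) = Ideal.Quotient.mk _ (Φ x) := fun x => rfl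
  have hsn : Function.Surjective Φn := by
    intro y
    obtain ⟨b, rfl⟩ := Ideal.Quotient.mk_surjective y
    obtain ⟨x, rfl⟩ := hs b
    exact ⟨Ideal.Quotient.mk _ x, rfl⟩
  have hmap : ((I.map (Ideal.Quotient.mk (I ^ n))).map
      (algebraMap (A ⧸ I ^ n) (H ⧸ (I ^ n).map (algebraMap A H)))) =
      (I.map (algebraMap A H)).map (Ideal.Quotient.mk ((I ^ n).map (algebraMap A H))) := by
    rw [Ideal.map_map, Ideal.map_map]
    rfl
  have hmapB : ((I ^ n).map (algebraMap A H)).map (Φ : H →+* B) = (I ^ n).map (algebraMap A B) := by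
    rw [Ideal.map_map, AlgHom.comp_algebraMap]
  have hle2 : (I ^ n).map (algebraMap A H) ≤ I.map (algebraMap A H) :=
    Ideal.map_mono (Ideal.pow_le_self hn.ne')
  have hkern : RingHom.ker Φn ≤ (I.map (Ideal.Quotient.mk (I ^ n))).map
      (algebraMap (A ⧸ I ^ n) (H ⧸ (I ^ n).map (algebraMap A H))) := by
    rw [hmap]
    intro x hx
    obtain ⟨x, rfl⟩ := Ideal.Quotient.mk_surjective x
    have h1 : Φ x ∈ (I ^ n).map (algebraMap A B) := by
      rw [← Ideal.Quotient.eq_zero_iff_mem, ← hΦn]
      exact hx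
    rw [← hmapB] at h1
    obtain ⟨y, hy, hyx⟩ := (Ideal.mem_map_iff_of_surjective (Φ : H →+* B) hs).1 h1
    have h2 : x - y ∈ RingHom.ker Φ := by
      rw [RingHom.mem_ker, map_sub, sub_eq_zero]
      exact hyx.symm
    have h3 : x ∈ I.map (algebraMap A H) := by
      have : x = (x - y) + y := by ring
      rw [this]
      exact Ideal.add_mem _ (hker h2) (hle2 hy)
    exact Ideal.mem_map_of_mem _ h3
  have hnil : IsNilpotent (I.map (Ideal.Quotient.mk (I ^ n))) := by
    refine ⟨n, ?_⟩
    rw [← Ideal.map_pow, Ideal.map_quotient_self, Ideal.zero_eq_bot]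
  have hbot := ker_eq_bot_of_formallySmooth Φn hsn _ hnil hkern
  intro x hx
  rw [← Ideal.Quotient.eq_zero_iff_mem]
  have : Ideal.Quotient.mk ((I ^ n).map (algebraMap A H)) x ∈ RingHom.ker Φn := by
    rw [RingHom.mem_ker, hΦn, show Φ x = 0 from hx, map_zero]
  rw [hbot] at this
  exact this

/-- If moreover `B` is flat over `A` and the kernel is finitely generated, then `H → B` is injective. -/
theorem ker_eq_bot_of_flat {A : Type u} {H : Type v} {B : Type w} [CommRing A] [CommRing H]
    [CommRing B] [Algebra A H] [Algebra A B] [Module.Flat A B] (Φ : H →ₐ[A] B)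
    (hs : Function.Surjective Φ) (I : Ideal A)
    (hker : RingHom.ker Φ ≤ I.map (algebraMap A H)) (hfg : (RingHom.ker Φ).FG)
    (hjac : I.map (algebraMap A H) ≤ Ideal.jacobson ⊥) : RingHom.ker Φ = ⊥ := by
  refine Submodule.eq_bot_of_le_smul_of_le_jacobson_bot (I.map (algebraMap A H)) _ hfg ?_ hjac
  intro x hx
  have hxI : x ∈ I • (⊤ : Submodule A H) := by
    rw [Ideal.smul_top_eq_map]; exact hker hx
  -- write `x = ∑ a i • h i`
  obtain ⟨l, a, ha, hsum⟩ : ∃ (l : ℕ) (a : Fin l → A) (_ : ∀ i, a i ∈ I), ∃ h : Fin l → H,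
      ∑ i, a i • h i = x := by
    obtain ⟨t, ht⟩ := (Submodule.mem_ideal_smul_span_iff_exists_sum I (fun h : H => h) x).1 (by
      rwa [Set.range_id', Submodule.span_univ])
    obtain ⟨ht, hx⟩ := ht
    refine ⟨t.support.card, fun i => t (t.support.equivFin.symm i), fun i => ht _,
      fun i => (t.support.equivFin.symm i : H), ?_⟩
    rw [← hx, Finsupp.sum, ← Finset.sum_coe_sort t.support (fun i => t i • i)]
    exact (t.support.equivFin.symm.sum_comp (fun i : t.support => t (i : H) • (i : H)))
  obtain ⟨h, hsum⟩ := hsum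
  have h0 : ∑ i, a i • Φ (h i) = 0 := by
    have : Φ (∑ i, a i • h i) = 0 := by rw [hsum]; exact hx
    rwa [map_sum, Finset.sum_congr rfl (fun i _ => map_smul Φ (a i) (h i))] at this
  obtain ⟨k, b, y, h1, h2⟩ := Module.Flat.iff_forall_isTrivialRelation.1
    (inferInstance : Module.Flat A B) h0
  choose z hz using fun j => hs (y j)
  have h3 : ∀ i, h i - ∑ j, b i j • z j ∈ RingHom.ker Φ := by
    intro i
    have h1' : Φ (h i) = ∑ j, b i j • y j := h1 i
    rw [RingHom.mem_ker, map_sub, h1', map_sum, sub_eq_zero]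
    exact Finset.sum_congr rfl fun j _ => by rw [map_smul, hz]
  have h4 : x = ∑ i, algebraMap A H (a i) * (h i - ∑ j, b i j • z j) := by
    have h5 : ∑ i, a i • ∑ j, b i j • z j = 0 := by
      simp_rw [Finset.smul_sum, smul_smul]
      rw [Finset.sum_comm]
      refine Finset.sum_eq_zero fun j _ => ?_
      rw [← Finset.sum_smul, h2 j, zero_smul]
    simp_rw [mul_sub, Finset.sum_sub_distrib, ← Algebra.smul_def]
    rw [h5, sub_zero, hsum]
  rw [h4]
  refine Submodule.sum_mem _ fun i _ => ?_
  exact Submodule.smul_mem_smul (Ideal.mem_map_of_mem _ (ha i)) (h3 i)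

end K144.Trunc
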