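import Groth.Agent.Hensel.K144.Surj
import Groth.Agent.Hensel.K144.Trunc
import Groth.Agent.Hensel.EtaleLiftQuot
import Groth.Agent.S2051
import Groth.Agent.S0536

/-!
Approximation of a henselian finitely presented map with (formally) smooth truncations by the henselization
of a smooth (étale) algebra.
-/

set_option autoImplicit false

universe u

open TensorProduct

namespace K144.Lift

theorem exists_of_smooth {A : Type u} [CommRing A] {I : Ideal A} {R₀ : Type u} [CommRing R₀]
    [Algebra A R₀] [Algebra.FinitePresentation A R₀] {B : Type u} [CommRing B] [Algebra R₀ B]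
    [Algebra A B] [IsScalarTower A R₀ B]
    (hB : Hens2.IsPairHenselization R₀ (I.map (algebraMap A R₀)) B)
    {R : Type u} [CommRing R] [Algebra A R] [Algebra.Smooth A R]
    (σ : R →ₐ[A] B ⧸ I.map (algebraMap A B)) (hσs : Function.Surjective σ)
    (hσk : ∀ x, σ x = 0 → x ∈ I.map (algebraMap A R))
    (hsm : ∀ r : ℕ, 1 ≤ r →
      Algebra.FormallySmooth (A ⧸ I ^ r) (B ⧸ (I ^ r).map (algebraMap A B))) :
    ∃ (H : Type u) (_ : CommRing H) (_ : Algebra R H)
      (_ : Algebra A H) (_ : IsScalarTower A R H),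
      Hens2.IsPairHenselization R (I.map (algebraMap A R)) H ∧
      ∃ φ : H →ₐ[A] B, Function.Surjective φ ∧ (RingHom.ker φ).FG ∧
        ∀ n : ℕ, RingHom.ker φ ≤ (I ^ n).map (algebraMap A H) := by
  have hBh : HenselianRing B (I.map (algebraMap A B)) := by
    have := hB.1
    rwa [Ideal.map_map, ← IsScalarTower.algebraMap_eq] at this
  obtain ⟨φ, hφ⟩ := Groth.Agent.S0536.result A R B (I.map (algebraMap A B)) σ
  have hφσ : ∀ r, Ideal.Quotient.mk (I.map (algebraMap A B)) (φ r) = σ r := fun r =>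
    congrArg (fun f : R →ₐ[A] B ⧸ I.map (algebraMap A B) => f r) hφ
  obtain ⟨H, _, _, hH⟩ := Groth.Agent.S2051.result R (I.map (algebraMap A R))
  let _ : Algebra A H := ((algebraMap R H).comp (algebraMap A R)).toAlgebra
  have st : IsScalarTower A R H := IsScalarTower.of_algebraMap_eq fun _ => rfl
  have hmapH : (I.map (algebraMap A R)).map (algebraMap R H) = I.map (algebraMap A H) := by
    rw [Ideal.map_map, ← IsScalarTower.algebraMap_eq]
  obtain ⟨Φ, hΦ, hΦs, hΦfg⟩ := K144.Surj.exists_surjection hB φ (fun b => by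
    obtain ⟨r, hr⟩ := hσs (Ideal.Quotient.mk _ b)
    refine ⟨r, ?_⟩
    rw [← Ideal.Quotient.eq, hφσ, hr]) hH
  have hker : RingHom.ker Φ ≤ I.map (algebraMap A H) := by
    intro x hx
    obtain ⟨r, hr⟩ := K144.Nbhd.exists_sub_mem
      (Groth.Agent.Etalg.PairHens2.quot_bijective H hH).2 x
    rw [hmapH] at hr
    have h1 : Φ (x - algebraMap R H r) ∈ I.map (algebraMap A B) := by
      have := Ideal.mem_map_of_mem (Φ : H →+* B) hr
      rwa [Ideal.map_map, AlgHom.comp_algebraMap] at this
    rw [map_sub, show Φ x = 0 from hx, zero_sub, neg_mem_iff, hΦ] at h1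
    have h2 : σ r = 0 := by
      rw [← hφσ]
      exact Ideal.Quotient.eq_zero_iff_mem.2 h1
    have h3 := hσk r h2
    have h4 : algebraMap R H r ∈ I.map (algebraMap A H) := by
      rw [← hmapH]
      exact Ideal.mem_map_of_mem _ h3
    have h5 : x = (x - algebraMap R H r) + algebraMap R H r := by ring
    rw [h5]
    exact Ideal.add_mem _ hr h4
  refine ⟨H, inferInstance, inferInstance, inferInstance, inferInstance, hH, Φ, hΦs, hΦfg, ?_⟩
  intro n
  rcases Nat.eq_zero_or_pos n with rfl | hn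
  · rw [pow_zero, Ideal.one_eq_top, Ideal.map_top]
    exact le_top
  exact K144.Trunc.ker_le_map_pow Φ hΦs I hker n (hsm n hn)

/-- Étale algebras over `A/I` lift to étale algebras over `A`, in the form of a surjection with kernel
`IR`. -/
theorem exists_etale_lift {A : Type u} [CommRing A] (I : Ideal A) (C : Type u) [CommRing C]
    [Algebra A C] [Algebra (A ⧸ I) C] [IsScalarTower A (A ⧸ I) C] [Algebra.Etale (A ⧸ I) C] :
    ∃ (R : Type u) (_ : CommRing R) (_ : Algebra A R) (_ : Algebra.Etale A R) (σ : R →ₐ[A] C),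
      Function.Surjective σ ∧ ∀ x, σ x = 0 → x ∈ I.map (algebraMap A R) := by
  obtain ⟨R, _, _, hR, ⟨e⟩⟩ := Groth.Agent.Hensel.EtaleLiftQuot.exists_etale_lift
    (A := A) (A' := A ⧸ I) Ideal.Quotient.mk_surjective C
  let e' : (R ⧸ I.map (algebraMap A R)) ≃ₐ[A ⧸ I] (A ⧸ I) ⊗[A] R :=
    Algebra.TensorProduct.quotIdealMapEquivQuotTensor R I
  let f := (e'.trans e)
  let σ : R →ₐ[A] C := (f.toAlgHom.restrictScalars A).comp (Ideal.Quotient.mkₐ A _)
  have hσ : ∀ x, σ x = f (Ideal.Quotient.mk _ x) := fun x => rfl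
  refine ⟨R, inferInstance, inferInstance, hR, σ, ?_, ?_⟩
  · intro y
    obtain ⟨x, hx⟩ := Ideal.Quotient.mk_surjective (f.symm y)
    exact ⟨x, by rw [hσ, hx, AlgEquiv.apply_symm_apply]⟩
  · intro x hx
    rw [hσ] at hx
    rw [← Ideal.Quotient.eq_zero_iff_mem]
    exact f.injective (by rw [hx, map_zero])

end K144.Lift
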