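import Groth.Agent.Hensel.K144.Nbhd
import Groth.Agent.FlatB.QFConstr
import Groth.Agent.S0387
import Mathlib.RingTheory.Flat.Localization
import Mathlib.RingTheory.Smooth.Locus

/-!
Shrinking an algebra around `V(J)`: for an open set `U ⊇ V(J)` of `Spec R` there is `g ≡ 1 mod J` with
`D(g) ⊆ U`; and `R → R[1/g]` is étale and bijective modulo `J`.  Applications to the flat, smooth and
quasi-finite loci.
-/

set_option autoImplicit false

universe u

open TensorProduct

namespace K144.Locus

/-- An open set containing `V(J)` contains `D(g)` for some `g ≡ 1 mod J`. -/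
theorem exists_basicOpen {R : Type u} [CommRing R] (J : Ideal R) (U : Set (PrimeSpectrum R))
    (hU : IsOpen U) (h : ∀ p : PrimeSpectrum R, J ≤ p.asIdeal → p ∈ U) :
    ∃ g : R, 1 - g ∈ J ∧ ∀ p : PrimeSpectrum R, g ∉ p.asIdeal → p ∈ U := by
  obtain ⟨s, hs⟩ := (PrimeSpectrum.isClosed_iff_zeroLocus Uᶜ).1 hU.isClosed_compl
  have hsup : Ideal.span s ⊔ J = ⊤ := by
    by_contra hne
    obtain ⟨P, hP, hle⟩ := Ideal.exists_le_maximal _ hne
    have h1 : (⟨P, hP.isPrime⟩ : PrimeSpectrum R) ∈ U := h _ (le_sup_right.trans hle)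
    have h2 : (⟨P, hP.isPrime⟩ : PrimeSpectrum R) ∈ PrimeSpectrum.zeroLocus s := by
      rw [PrimeSpectrum.mem_zeroLocus]
      exact Ideal.span_le.1 (le_sup_left.trans hle)
    rw [← hs] at h2
    exact h2 h1
  obtain ⟨g, hg, k, hk, hgk⟩ := Submodule.mem_sup.1 (hsup ▸ Submodule.mem_top : (1 : R) ∈ _)
  refine ⟨g, ?_, fun p hp => ?_⟩
  · rw [← hgk]; simpa using hk
  · by_contra hpU
    have h3 : p ∈ PrimeSpectrum.zeroLocus s := by rw [← hs]; exact hpU
    rw [PrimeSpectrum.mem_zeroLocus, ← Ideal.span_le] at h3
    exact hp (h3 hg)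

theorem one_sub_pow_mem {R : Type u} [CommRing R] {J : Ideal R} {g : R} (hg : 1 - g ∈ J) (n : ℕ) :
    1 - g ^ n ∈ J := by
  induction n with
  | zero => simp
  | succ n ih =>
    have h1 : 1 - g ^ (n + 1) = (1 - g ^ n) + g ^ n * (1 - g) := by ring
    rw [h1]
    exact J.add_mem ih (J.mul_mem_left _ hg)

/-- `R/J → R[1/g]/J R[1/g]` is bijective when `g ≡ 1 mod J`. -/
theorem bijective_away {R : Type u} [CommRing R] (J : Ideal R) (g : R) (hg : 1 - g ∈ J)
    (R' : Type u) [CommRing R'] [Algebra R R'] [IsLocalization.Away g R'] :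
    Function.Bijective
      (Ideal.quotientMap (J.map (algebraMap R R')) (algebraMap R R') Ideal.le_comap_map) := by
  constructor
  · rw [injective_iff_map_eq_zero]
    intro x hx
    obtain ⟨x, rfl⟩ := Ideal.Quotient.mk_surjective x
    rw [Ideal.quotientMap_mk, Ideal.Quotient.eq_zero_iff_mem,
      IsLocalization.algebraMap_mem_map_algebraMap_iff (Submonoid.powers g)] at hx
    obtain ⟨_, ⟨n, rfl⟩, hx⟩ := hx
    rw [Ideal.Quotient.eq_zero_iff_mem]
    have h1 : x = g ^ n * x + (1 - g ^ n) * x := by ring
    rw [h1]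
    exact J.add_mem hx (J.mul_mem_right _ (one_sub_pow_mem hg n))
  · intro y
    obtain ⟨y, rfl⟩ := Ideal.Quotient.mk_surjective y
    obtain ⟨x, ⟨_, n, rfl⟩, rfl⟩ := IsLocalization.exists_mk'_eq (Submonoid.powers g) y
    refine ⟨Ideal.Quotient.mk J x, ?_⟩
    rw [Ideal.quotientMap_mk, Ideal.Quotient.eq]
    have h1 : algebraMap R R' x - IsLocalization.mk' R' x
        (⟨g ^ n, n, rfl⟩ : Submonoid.powers g) =
        - (IsLocalization.mk' R' x (⟨g ^ n, n, rfl⟩ : Submonoid.powers g) *
          algebraMap R R' (1 - g ^ n)) := by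
      have h2 := IsLocalization.mk'_spec R' x (⟨g ^ n, n, rfl⟩ : Submonoid.powers g)
      simp only at h2
      rw [map_sub, map_one, mul_sub, mul_one, h2]
      ring
    rw [h1]
    exact (Ideal.neg_mem_iff _).2
      (Ideal.mul_mem_left _ _ (Ideal.mem_map_of_mem _ (one_sub_pow_mem hg n)))

/-- The base case of all the "étale neighbourhood" statements: an open set containing `V(IR)` contains
the image of an étale neighbourhood of the form `R[1/g]`. -/
theorem exists_nbhd_of_isOpen {R : Type u} [CommRing R] (J : Ideal R) (U : Set (PrimeSpectrum R))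
    (hU : IsOpen U) (h : ∀ p : PrimeSpectrum R, J ≤ p.asIdeal → p ∈ U) :
    ∃ g : R, 1 - g ∈ J ∧ Algebra.Etale R (Localization.Away g) ∧
      Function.Bijective (Ideal.quotientMap (J.map (algebraMap R (Localization.Away g)))
        (algebraMap R (Localization.Away g)) Ideal.le_comap_map) ∧
      ∀ p : PrimeSpectrum R, g ∉ p.asIdeal → p ∈ U := by
  obtain ⟨g, hg, h1⟩ := exists_basicOpen J U hU h
  exact ⟨g, hg, inferInstance, bijective_away J g hg _, h1⟩

/-- Flatness of `R[1/g]` from flatness at the primes of `D(g)`. -/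
theorem flat_away {A R : Type u} [CommRing A] [CommRing R] [Algebra A R] (g : R)
    (h : ∀ p : PrimeSpectrum R, g ∉ p.asIdeal → Module.Flat A (Localization.AtPrime p.asIdeal)) :
    Module.Flat A (Localization.Away g) := by
  refine Module.flat_of_isLocalized_maximal (R := A) (Localization.Away g) (Localization.Away g)
    (fun P _ => Localization.AtPrime P)
    (fun P _ => Algebra.linearMap (Localization.Away g) (Localization.AtPrime P)) ?_
  intro P hP
  let p : Ideal R := P.comap (algebraMap R (Localization.Away g))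
  have hp : p.IsPrime := inferInstance
  have hgp : g ∉ p := by
    intro hg
    exact hP.isPrime.ne_top (Ideal.eq_top_of_isUnit_mem _ hg
      (IsLocalization.map_units (Localization.Away g) (⟨g, Submonoid.mem_powers g⟩ :
        Submonoid.powers g)))
  have hloc : IsLocalization.AtPrime (Localization.AtPrime P) p :=
    IsLocalization.isLocalization_isLocalization_atPrime_isLocalization
      (Submonoid.powers g) (Localization.AtPrime P) P
  have hflat := h ⟨p, hp⟩ hgp
  let e : Localization.AtPrime p ≃ₐ[R] Localization.AtPrime P :=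
    IsLocalization.algEquiv p.primeCompl _ _
  exact Module.Flat.of_linearEquiv (e.restrictScalars A).symm.toLinearEquiv

/-- The flat locus of a finitely presented algebra is open. -/
theorem isOpen_flat {A R : Type u} [CommRing A] [CommRing R] [Algebra A R]
    [Algebra.FinitePresentation A R] :
    IsOpen {p : PrimeSpectrum R | Module.Flat A (Localization.AtPrime p.asIdeal)} := by
  have h := Groth.Agent.S0387.result (R := A) (S := R) (M := R)
  convert h using 1

theorem exists_flat_nbhd {A R : Type u} [CommRing A] [CommRing R] [Algebra A R]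
    [Algebra.FinitePresentation A R] (J : Ideal R)
    (h : ∀ p : PrimeSpectrum R, J ≤ p.asIdeal → Module.Flat A (Localization.AtPrime p.asIdeal)) :
    ∃ g : R, 1 - g ∈ J ∧ Algebra.Etale R (Localization.Away g) ∧
      Function.Bijective (Ideal.quotientMap (J.map (algebraMap R (Localization.Away g)))
        (algebraMap R (Localization.Away g)) Ideal.le_comap_map) ∧
      Module.Flat A (Localization.Away g) := by
  obtain ⟨g, hg, h1, h2, h3⟩ := exists_nbhd_of_isOpen J _ (isOpen_flat (A := A) (R := R)) h
  exact ⟨g, hg, h1, h2, flat_away g h3⟩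

theorem exists_smooth_nbhd {A R : Type u} [CommRing A] [CommRing R] [Algebra A R]
    [Algebra.FinitePresentation A R] (J : Ideal R)
    (h : ∀ p : PrimeSpectrum R, J ≤ p.asIdeal → Algebra.IsSmoothAt A p.asIdeal) :
    ∃ g : R, 1 - g ∈ J ∧ Algebra.Etale R (Localization.Away g) ∧
      Function.Bijective (Ideal.quotientMap (J.map (algebraMap R (Localization.Away g)))
        (algebraMap R (Localization.Away g)) Ideal.le_comap_map) ∧
      Algebra.Smooth A (Localization.Away g) := by
  obtain ⟨g, hg, h1, h2, h3⟩ := exists_nbhd_of_isOpen J _ (Algebra.isOpen_smoothLocus (R := A)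
    (A := R)) h
  refine ⟨g, hg, h1, h2, ?_⟩
  exact Algebra.basicOpen_subset_smoothLocus_iff_smooth.1 fun p hp => h3 p hp

theorem quasiFinite_away {A R : Type u} [CommRing A] [CommRing R] [Algebra A R]
    [Algebra.FiniteType A R] (g : R)
    (h : ∀ p : PrimeSpectrum R, g ∉ p.asIdeal → Algebra.QuasiFiniteAt A p.asIdeal) :
    Algebra.QuasiFinite A (Localization.Away g) := by
  have : Algebra.FiniteType A (Localization.Away g) :=
    Algebra.FiniteType.trans (S := R) inferInstance (IsLocalization.finiteType_of_monoid_fg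
      (Submonoid.powers g) _)
  refine ⟨fun q hq => ?_⟩
  refine (Groth.Agent.FlatB.QFConstr.finite_fiber_iff (R := A) (S := Localization.Away g)
    ⟨q, hq⟩).2 fun P _ => ?_
  let p : Ideal R := P.asIdeal.comap (algebraMap R (Localization.Away g))
  have hp : p.IsPrime := inferInstance
  have hgp : g ∉ p := by
    intro hg
    exact P.isPrime.ne_top (Ideal.eq_top_of_isUnit_mem _ hg
      (IsLocalization.map_units (Localization.Away g) (⟨g, Submonoid.mem_powers g⟩ :
        Submonoid.powers g)))
  have hloc : IsLocalization.AtPrime (Localization.AtPrime P.asIdeal) p :=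
    IsLocalization.isLocalization_isLocalization_atPrime_isLocalization
      (Submonoid.powers g) (Localization.AtPrime P.asIdeal) P.asIdeal
  have hqf : Algebra.QuasiFinite A (Localization.AtPrime p) := h ⟨p, hp⟩ hgp
  let e : Localization.AtPrime p ≃ₐ[R] Localization.AtPrime P.asIdeal :=
    IsLocalization.algEquiv p.primeCompl _ _
  exact (Algebra.QuasiFinite.iff_of_algEquiv (e.restrictScalars A)).1 hqf

theorem exists_quasiFinite_nbhd {A R : Type u} [CommRing A] [CommRing R] [Algebra A R]
    [Algebra.FiniteType A R] (J : Ideal R)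
    (h : ∀ p : PrimeSpectrum R, J ≤ p.asIdeal → Algebra.QuasiFiniteAt A p.asIdeal) :
    ∃ g : R, 1 - g ∈ J ∧ Algebra.Etale R (Localization.Away g) ∧
      Function.Bijective (Ideal.quotientMap (J.map (algebraMap R (Localization.Away g)))
        (algebraMap R (Localization.Away g)) Ideal.le_comap_map) ∧
      Algebra.QuasiFinite A (Localization.Away g) := by
  obtain ⟨g, hg, h1, h2, h3⟩ := exists_nbhd_of_isOpen J _
    (Groth.Agent.FlatB.QFConstr.isOpen_quasiFiniteAt (R := A) (S := R)) h
  exact ⟨g, hg, h1, h2, quasiFinite_away g h3⟩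

end K144.Locus
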