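import Groth.Agent.Etalg.PairHens2
import Groth.Agent.Etalg.PairHensNoeth
import Groth.Agent.Hensel.PairLift

/-!
Étale neighbourhoods of a pair `(A, I)`: étale `A`-algebras `A'` with `A/I → A'/IA'` bijective.
A henselization of an étale neighbourhood is a henselization of the pair, maps to henselian pairs extend
uniquely to étale neighbourhoods, and a map from a finitely presented algebra to the henselization
factors through an étale neighbourhood.
-/

set_option autoImplicit false

universe u

open TensorProduct

namespace K144.Nbhd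

open Groth.Agent

section Basic

variable {R : Type u} [CommRing R] {I : Ideal R} {S : Type u} [CommRing S] [Algebra R S]

theorem exists_sub_mem (hq : Function.Surjective
      (Ideal.quotientMap (I.map (algebraMap R S)) (algebraMap R S) Ideal.le_comap_map)) (x : S) :
    ∃ r : R, x - algebraMap R S r ∈ I.map (algebraMap R S) := by
  obtain ⟨y, hy⟩ := hq (Ideal.Quotient.mk _ x)
  obtain ⟨r, rfl⟩ := Ideal.Quotient.mk_surjective y
  refine ⟨r, ?_⟩
  rw [Ideal.quotientMap_mk, eq_comm, Ideal.Quotient.eq] at hy
  exact hy

theorem map_le_of_algHom {C : Type u} [CommRing C] [Algebra R C] {J : Ideal C}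
    (hIJ : I.map (algebraMap R C) ≤ J) (s : S →ₐ[R] C) :
    (I.map (algebraMap R S)).map (s : S →+* C) ≤ J := by
  rw [Ideal.map_map, AlgHom.comp_algebraMap]
  exact hIJ

/-- Two algebra maps out of an algebra with `R/I → S/IS` surjective agree modulo `J ⊇ IC`. -/
theorem sub_mem {C : Type u} [CommRing C] [Algebra R C] {J : Ideal C}
    (hIJ : I.map (algebraMap R C) ≤ J)
    (hq : Function.Surjective
      (Ideal.quotientMap (I.map (algebraMap R S)) (algebraMap R S) Ideal.le_comap_map))
    (s t : S →ₐ[R] C) (x : S) : s x - t x ∈ J := by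
  obtain ⟨r, hr⟩ := exists_sub_mem hq x
  have h1 : s (x - algebraMap R S r) ∈ J :=
    map_le_of_algHom hIJ s (Ideal.mem_map_of_mem (s : S →+* C) hr)
  have h2 : t (x - algebraMap R S r) ∈ J :=
    map_le_of_algHom hIJ t (Ideal.mem_map_of_mem (t : S →+* C) hr)
  have h3 := J.sub_mem h1 h2
  simp only [map_sub, AlgHom.commutes] at h3
  convert h3 using 1
  ring

/-- The map to `C/J` determined by `R/I ≃ S/IS`. -/
theorem exists_algHom_quotient {C : Type u} [CommRing C] [Algebra R C] {J : Ideal C}
    (hIJ : I.map (algebraMap R C) ≤ J)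
    (hq : Function.Bijective
      (Ideal.quotientMap (I.map (algebraMap R S)) (algebraMap R S) Ideal.le_comap_map)) :
    Nonempty (S →ₐ[R] C ⧸ J) := by
  have h0 : ∀ a ∈ I, (Algebra.ofId R (C ⧸ J)) a = 0 := fun a ha =>
    Ideal.Quotient.eq_zero_iff_mem.2 (hIJ (Ideal.mem_map_of_mem _ ha))
  let τ' : (R ⧸ I) →ₐ[R] C ⧸ J := Ideal.Quotient.liftₐ I (Algebra.ofId R _) h0
  let e : (R ⧸ I) ≃+* (S ⧸ I.map (algebraMap R S)) := RingEquiv.ofBijective _ hq
  have he : ∀ r : R, e (Ideal.Quotient.mk I r) =
      Ideal.Quotient.mk (I.map (algebraMap R S)) (algebraMap R S r) := fun r => rfl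
  refine ⟨{ (τ'.toRingHom.comp e.symm.toRingHom).comp (Ideal.Quotient.mk _) with
    commutes' := fun r => ?_ }⟩
  change τ' (e.symm (Ideal.Quotient.mk _ (algebraMap R S r))) = _
  rw [← he, RingEquiv.symm_apply_apply]
  exact τ'.commutes r

/-- Maps to henselian pairs extend uniquely to étale neighbourhoods. -/
theorem existsUnique_algHom [Algebra.Etale R S] {C : Type u} [CommRing C] [Algebra R C]
    {J : Ideal C} [HenselianRing C J] (hIJ : I.map (algebraMap R C) ≤ J)
    (hq : Function.Bijective
      (Ideal.quotientMap (I.map (algebraMap R S)) (algebraMap R S) Ideal.le_comap_map)) :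
    ∃! _s : S →ₐ[R] C, True := by
  obtain ⟨σ⟩ := exists_algHom_quotient hIJ hq
  obtain ⟨s, -⟩ := Groth.Agent.Hensel.PairLift.exists_algHom_lift J σ
  refine ⟨s, trivial, fun t _ => ?_⟩
  exact Groth.Agent.Hensel.LocalEtale.algHom_eq_of_sub_mem_jacobson J HenselianRing.jac t s
    (sub_mem hIJ hq.2 t s)

/-- A henselization of an étale neighbourhood is a henselization of the pair. -/
theorem isPairHenselization_of_etale [Algebra.Etale R S]
    (hq : Function.Bijective
      (Ideal.quotientMap (I.map (algebraMap R S)) (algebraMap R S) Ideal.le_comap_map))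
    {H : Type u} [CommRing H] [Algebra S H] [Algebra R H] [IsScalarTower R S H]
    (hH : Hens2.IsPairHenselization S (I.map (algebraMap R S)) H) :
    Hens2.IsPairHenselization R I H := by
  refine ⟨?_, ?_⟩
  · have := hH.1
    rwa [Ideal.map_map, ← IsScalarTower.algebraMap_eq] at this
  · intro C _ J f hC hf
    let _ : Algebra R C := f.toAlgebra
    have hIJ : I.map (algebraMap R C) ≤ J := hf
    obtain ⟨s, -, hs⟩ := existsUnique_algHom (J := J) hIJ hq
    obtain ⟨g, hg, hgu⟩ := hH.2 C J (s : S →+* C) hC (map_le_of_algHom hIJ s)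
    refine ⟨g, ?_, fun g' hg' => ?_⟩
    · change g.comp (algebraMap R H) = f
      rw [IsScalarTower.algebraMap_eq R S H, ← RingHom.comp_assoc, hg]
      exact s.comp_algebraMap
    · apply hgu
      let t : S →ₐ[R] C := { g'.comp (algebraMap S H) with
        commutes' := fun r => by
          change g' (algebraMap S H (algebraMap R S r)) = f r
          rw [← IsScalarTower.algebraMap_apply]
          exact congrArg (fun h : R →+* C => h r) hg' }
      have : t = s := hs t trivial
      change (t : S →+* C) = s
      rw [this]

/-- A henselization of a pair is a henselization of each of its étale neighbourhoods. -/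
theorem isPairHenselization_nbhd [Algebra.Etale R S]
    (hq : Function.Bijective
      (Ideal.quotientMap (I.map (algebraMap R S)) (algebraMap R S) Ideal.le_comap_map))
    {H : Type u} [CommRing H] [Algebra S H] [Algebra R H] [IsScalarTower R S H]
    (hH : Hens2.IsPairHenselization R I H) :
    Hens2.IsPairHenselization S (I.map (algebraMap R S)) H := by
  refine ⟨?_, ?_⟩
  · rw [Ideal.map_map, ← IsScalarTower.algebraMap_eq]
    exact hH.1
  · intro C _ J f hC hf
    have hf' : I.map (f.comp (algebraMap R S)) ≤ J := by
      rw [← Ideal.map_map]; exact hf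
    obtain ⟨g, hg, hgu⟩ := hH.2 C J (f.comp (algebraMap R S)) hC hf'
    refine ⟨g, ?_, fun g' hg' => ?_⟩
    · let _ : Algebra R C := (f.comp (algebraMap R S)).toAlgebra
      have hIJ : I.map (algebraMap R C) ≤ J := hf'
      obtain ⟨s, -, hs⟩ := existsUnique_algHom (J := J) hIJ hq
      let t : S →ₐ[R] C := { g.comp (algebraMap S H) with
        commutes' := fun r => by
          change g (algebraMap S H (algebraMap R S r)) = f (algebraMap R S r)
          rw [← IsScalarTower.algebraMap_apply]
          exact congrArg (fun h : R →+* C => h r) hg }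
      let t' : S →ₐ[R] C := { f with commutes' := fun r => rfl }
      have h1 : t = t' := (hs t trivial).trans (hs t' trivial).symm
      exact congrArg (fun h : S →ₐ[R] C => (h : S →+* C)) h1
    · apply hgu
      rw [IsScalarTower.algebraMap_eq R S H, ← RingHom.comp_assoc, hg']

/-- The structure of algebra over an étale neighbourhood on a henselization. -/
theorem exists_algHom_henselization [Algebra.Etale R S]
    (hq : Function.Bijective
      (Ideal.quotientMap (I.map (algebraMap R S)) (algebraMap R S) Ideal.le_comap_map))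
    {H : Type u} [CommRing H] [Algebra R H] (hH : Hens2.IsPairHenselization R I H) :
    ∃! _s : S →ₐ[R] H, True :=
  have := hH.1
  existsUnique_algHom (J := I.map (algebraMap R H)) le_rfl hq

end Basic

end K144.Nbhd
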