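import Groth.Agent.Hensel.LocalEtale
import Mathlib.AlgebraicGeometry.Morphisms.Etale

/-!
Sections of étale morphisms over a henselian local ring.
-/

set_option autoImplicit false

universe u

open CategoryTheory CategoryTheory.Limits AlgebraicGeometry

namespace K144.Section

theorem mem_of_closedPoint_mem {R : Type u} [CommRing R] [IsLocalRing R] {X : Scheme.{u}}
    (s : Spec (CommRingCat.of R) ⟶ X) (V : X.Opens) (h : s.base (IsLocalRing.closedPoint R) ∈ V)
    (y : Spec (CommRingCat.of R)) : s.base y ∈ V := by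
  have h1 : y ⤳ (IsLocalRing.closedPoint R : PrimeSpectrum R) :=
    IsLocalRing.specializes_closedPoint (R := R) y
  exact (h1.map s.continuous).mem_open V.isOpen h

theorem existsUnique_section (R : Type u) [CommRing R]
    [HenselianLocalRing R] {X : Scheme.{u}} (f : X ⟶ Spec (CommRingCat.of R)) [Etale f]
    (t : Spec (CommRingCat.of (IsLocalRing.ResidueField R)) ⟶ X)
    (ht : t ≫ f = Spec.map (CommRingCat.ofHom (IsLocalRing.residue R))) :
    ∃! s : Spec (CommRingCat.of R) ⟶ X,
      s ≫ f = 𝟙 (Spec (CommRingCat.of R)) ∧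
      Spec.map (CommRingCat.ofHom (IsLocalRing.residue R)) ≫ s = t := by
  obtain ⟨V, hV, hxV, -⟩ := exists_isAffineOpen_mem_and_subset
    (x := t.base (IsLocalRing.closedPoint (IsLocalRing.ResidueField R))) (U := ⊤) trivial
  let j := hV.fromSpec
  obtain ⟨ψ, hψ⟩ := Spec.map_surjective (j ≫ f)
  have hrange : Set.range j = (V : Set X) := hV.range_fromSpec
  have het : ψ.hom.Etale := by
    have h1 : Etale (Spec.map ψ) := by rw [hψ]; infer_instance
    exact (HasRingHomProperty.Spec_iff (P := @Etale)).1 h1
  let _ : Algebra R Γ(X, V) := ψ.hom.toAlgebra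
  have het' : Algebra.Etale R Γ(X, V) := het
  -- factor `t`
  have htr : Set.range t ⊆ Set.range j := by
    rintro _ ⟨y, rfl⟩
    rw [hrange]
    exact mem_of_closedPoint_mem t V hxV y
  obtain ⟨θ, hθ⟩ := Spec.map_surjective (IsOpenImmersion.lift j t htr)
  have hθt : Spec.map θ ≫ j = t := by rw [hθ, IsOpenImmersion.lift_fac]
  have hθψ : ψ ≫ θ = CommRingCat.ofHom (IsLocalRing.residue R) := by
    apply Spec.map_injective
    rw [Spec.map_comp, hψ, ← Category.assoc, hθt, ht]
  let σ : Γ(X, V) →ₐ[R] IsLocalRing.ResidueField R := { θ.hom with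
    commutes' := fun r => congrArg (fun k : CommRingCat.of R ⟶
      CommRingCat.of (IsLocalRing.ResidueField R) => k.hom r) hθψ }
  obtain ⟨τ, hτ⟩ := Groth.Agent.Hensel.LocalEtale.exists_algHom_of_residueField (T := R) σ
  have hτψ : ψ ≫ CommRingCat.ofHom τ.toRingHom = 𝟙 (CommRingCat.of R) := by
    apply CommRingCat.hom_ext
    apply RingHom.ext
    intro r
    exact τ.commutes r
  have hτθ : CommRingCat.ofHom τ.toRingHom ≫ CommRingCat.ofHom (IsLocalRing.residue R) = θ := by
    apply CommRingCat.hom_ext
    apply RingHom.ext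
    intro r
    exact hτ r
  refine ⟨Spec.map (CommRingCat.ofHom τ.toRingHom) ≫ j, ⟨?_, ?_⟩, ?_⟩
  · rw [Category.assoc, ← hψ, ← Spec.map_comp, hτψ, Spec.map_id]
  · rw [← Category.assoc, ← Spec.map_comp, hτθ, hθt]
  · rintro s ⟨hs1, hs2⟩
    have hsV : s.base (IsLocalRing.closedPoint R) ∈ V := by
      have h1 : t.base (IsLocalRing.closedPoint (IsLocalRing.ResidueField R)) =
          s.base ((Spec.map (CommRingCat.ofHom (IsLocalRing.residue R))).base
            (IsLocalRing.closedPoint (IsLocalRing.ResidueField R))) := by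
        rw [← hs2]; rfl
      have h2 : (Spec.map (CommRingCat.ofHom (IsLocalRing.residue R))).base
            (IsLocalRing.closedPoint (IsLocalRing.ResidueField R)) = IsLocalRing.closedPoint R :=
        IsLocalRing.comap_closedPoint (IsLocalRing.residue R)
      rw [← h2, ← h1]
      exact hxV
    have hsr : Set.range s ⊆ Set.range j := by
      rintro _ ⟨y, rfl⟩
      rw [hrange]
      exact mem_of_closedPoint_mem s V hsV y
    obtain ⟨θ', hθ'⟩ := Spec.map_surjective (IsOpenImmersion.lift j s hsr)
    have hθs : Spec.map θ' ≫ j = s := by rw [hθ', IsOpenImmersion.lift_fac]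
    have hθψ' : ψ ≫ θ' = 𝟙 (CommRingCat.of R) := by
      apply Spec.map_injective
      rw [Spec.map_comp, hψ, ← Category.assoc, hθs, hs1, Spec.map_id]
    have hres : θ' ≫ CommRingCat.ofHom (IsLocalRing.residue R) = θ := by
      apply Spec.map_injective
      rw [← cancel_mono j, Spec.map_comp, Category.assoc, hθs, hs2, hθt]
    let τ' : Γ(X, V) →ₐ[R] R := { θ'.hom with
      commutes' := fun r => congrArg (fun k : CommRingCat.of R ⟶ CommRingCat.of R => k.hom r) hθψ' }
    have hττ' : τ' = τ := by
      refine Groth.Agent.Hensel.LocalEtale.algHom_eq_of_residue_eq (T := R) τ' τ fun a => ?_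
      rw [hτ]
      exact congrArg (fun k : Γ(X, V) ⟶ CommRingCat.of (IsLocalRing.ResidueField R) => k.hom a) hres
    have h3 : θ' = CommRingCat.ofHom τ.toRingHom := by
      apply CommRingCat.hom_ext
      apply RingHom.ext
      intro r
      exact congrArg (fun k : Γ(X, V) →ₐ[R] R => k r) hττ'
    rw [← hθs, h3]

end K144.Section
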