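import Mathlib
import Groth.Agent.Hensel.K144.ComplGen
import Groth.Agent.Hensel.Exist

/-!
# The strict henselization of a completion

For a flat local map `A → A₁` of Noetherian local rings with `m A₁ = m₁` and trivial residue extension
(for instance the completion), the strict henselization of `A` maps to that of `A₁` by a flat local map
with the same properties.
-/

set_option autoImplicit false
universe u

namespace K144.StrictMap

open IsLocalRing K144.ComplGen

variable {A A₁ S T : Type u} [CommRing A] [IsLocalRing A] [CommRing A₁] [IsLocalRing A₁]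
  [CommRing S] [IsLocalRing S] [CommRing T] [IsLocalRing T] [Algebra A A₁] [Algebra A S]
  [Algebra A₁ T] [IsLocalHom (algebraMap A A₁)] [IsLocalHom (algebraMap A S)]
  [IsLocalHom (algebraMap A₁ T)]

theorem residue_surjective_of (hres : ∀ b : A₁, ∃ a : A, b - algebraMap A A₁ a ∈ maximalIdeal A₁) :
    Function.Surjective (algebraMap (ResidueField A) (ResidueField A₁)) := by
  intro x
  obtain ⟨b, rfl⟩ := residue_surjective x
  obtain ⟨a, ha⟩ := hres b
  refine ⟨residue A a, ?_⟩
  have h1 : residue A₁ (b - algebraMap A A₁ a) = 0 := (residue_eq_zero_iff _).2 ha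
  rw [map_sub, sub_eq_zero] at h1
  rw [h1]
  rfl

theorem exists_map [hS : Hensel.IsStrictHenselization A S] [hT : Hensel.IsStrictHenselization A₁ T]
    [Module.Flat A A₁] (hm : (maximalIdeal A).map (algebraMap A A₁) = maximalIdeal A₁)
    (hres : ∀ b : A₁, ∃ a : A, b - algebraMap A A₁ a ∈ maximalIdeal A₁) :
    ∃ g : S →+* T, g.comp (algebraMap A S) = (algebraMap A₁ T).comp (algebraMap A A₁) ∧
      IsLocalHom g ∧ g.Flat ∧ (maximalIdeal S).map g = maximalIdeal T ∧
      ∀ b : T, ∃ a : S, b - g a ∈ maximalIdeal T := by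
  let f : A →+* T := (algebraMap A₁ T).comp (algebraMap A A₁)
  have hf : IsLocalHom f := RingHom.isLocalHom_comp _ _
  have := hS.henselian
  have := hT.henselian
  have := hS.isSepClosure.sep_closed
  have := hS.isSepClosure.separable
  have := hT.isSepClosure.sep_closed
  have := hT.isSepClosure.separable
  let _ : Algebra (ResidueField A) (ResidueField T) := (ResidueField.map f).toAlgebra
  have htow : IsScalarTower (ResidueField A) (ResidueField A₁) (ResidueField T) := by
    refine IsScalarTower.of_algebraMap_eq fun x => ?_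
    obtain ⟨x, rfl⟩ := residue_surjective x
    rfl
  have hsep1 : Algebra.IsSeparable (ResidueField A) (ResidueField A₁) := by
    refine ⟨fun x => ?_⟩
    obtain ⟨x, rfl⟩ := residue_surjective_of hres x
    exact isSeparable_algebraMap x
  have hsep : Algebra.IsSeparable (ResidueField A) (ResidueField T) :=
    Algebra.IsSeparable.trans (ResidueField A) (ResidueField A₁) (ResidueField T)
  let τ : ResidueField S →ₐ[ResidueField A] ResidueField T := IsSepClosed.lift
  have hτ : (τ : ResidueField S →+* ResidueField T).comp (ResidueField.map (algebraMap A S)) =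
      ResidueField.map f := by
    ext x
    exact τ.commutes x
  obtain ⟨g, ⟨hg1, hg2⟩, -⟩ := hS.universal T f τ hτ
  have hτs : Function.Surjective τ := by
    let _ : Algebra (ResidueField S) (ResidueField T) := (τ : _ →+* _).toAlgebra
    have : IsScalarTower (ResidueField A) (ResidueField S) (ResidueField T) :=
      IsScalarTower.of_algebraMap_eq fun x => (τ.commutes x).symm
    have := Algebra.isSeparable_tower_top_of_isSeparable (ResidueField A) (ResidueField S)
      (ResidueField T)
    exact IsSepClosed.algebraMap_surjective (ResidueField S) (ResidueField T)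
  refine ⟨g, hg1, ?_, ?_, ?_, ?_⟩
  · constructor
    intro x hx
    have h1 : residue T (g x) ≠ 0 := by
      rw [Ne, residue_eq_zero_iff]
      exact fun h => (mem_maximalIdeal _).1 h hx
    by_contra h2
    apply h1
    rw [hg2, (residue_eq_zero_iff x).2 h2, map_zero]
  · algebraize [g]
    let _ : Algebra A T := f.toAlgebra
    have h1 : IsScalarTower A S T := IsScalarTower.of_algebraMap_eq fun x => by
      rw [RingHom.algebraMap_toAlgebra g, ← RingHom.comp_apply, hg1]; rfl
    have h2 : IsScalarTower A A₁ T := IsScalarTower.of_algebraMap_eq fun x => rfl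
    have h3 : Module.Flat A₁ T :=
      (Groth.Agent.Hensel.Lazard.faithfullyFlat_of_isStrictHenselization A₁ T).toFlat
    have h4 : Module.Flat A T := Module.Flat.trans A A₁ T
    have h5 := Groth.Agent.Flat2G.StrictHens.weaklyEtale_of_isStrictHenselization A S
    have h6 : Module.Flat S T := Groth.Agent.Proet.WEtale2.flat_of_weaklyEtale_of_flat A S T
    exact h6
  · rw [← Groth.Agent.Hensel.Exist.map_maximalIdeal_of_isStrictHenselization A S, Ideal.map_map, hg1,
      ← Ideal.map_map, hm, Groth.Agent.Hensel.Exist.map_maximalIdeal_of_isStrictHenselization A₁ T]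
  · intro b
    obtain ⟨x, hx⟩ := hτs (residue T b)
    obtain ⟨a, rfl⟩ := residue_surjective x
    refine ⟨a, ?_⟩
    rw [← residue_eq_zero_iff, map_sub, hg2, sub_eq_zero]
    exact hx.symm

variable (A A₁ S T) in
/-- Immediate étale generizations of the closed points of `A` and of `A₁`. -/
theorem immediate_iff (H : ComplConn.{u}) [hS : Hensel.IsStrictHenselization A S]
    [hT : Hensel.IsStrictHenselization A₁ T] [IsNoetherianRing A] [IsNoetherianRing A₁]
    [Module.Flat A A₁] (hm : (maximalIdeal A).map (algebraMap A A₁) = maximalIdeal A₁)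
    (hres : ∀ b : A₁, ∃ a : A, b - algebraMap A A₁ a ∈ maximalIdeal A₁) (p : Ideal A) :
    (∃ P ∈ (p.map (algebraMap A S)).minimalPrimes, ringKrullDim (S ⧸ P) = 1) ↔
    (∃ q ∈ (p.map (algebraMap A A₁)).minimalPrimes,
      ∃ Q ∈ (q.map (algebraMap A₁ T)).minimalPrimes, ringKrullDim (T ⧸ Q) = 1) := by
  obtain ⟨g, hg1, hg2, hg3, hg4, hg5⟩ := exists_map (S := S) (T := T) hm hres
  have := hS.henselian
  have := hT.henselian
  have hNS : IsNoetherianRing S := by
    have hff := Groth.Agent.Hensel.Lazard.faithfullyFlat_of_isStrictHenselization A S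
    exact Groth.Agent.Hensel.EtaleNbhd.isNoetherianRing
      (Groth.Agent.Hensel.Lazard.exists_etale_of_isStrictHenselization A S)
  have hffT := Groth.Agent.Hensel.Lazard.faithfullyFlat_of_isStrictHenselization A₁ T
  have hNT : IsNoetherianRing T :=
    Groth.Agent.Hensel.EtaleNbhd.isNoetherianRing
      (Groth.Agent.Hensel.Lazard.exists_etale_of_isStrictHenselization A₁ T)
  algebraize [g]
  have hloc : IsLocalHom (algebraMap S T) := hg2
  rw [exists_iff (S := S) (T := T) H hg4 hg5 (p.map (algebraMap A S))]
  have hmm : (p.map (algebraMap A S)).map (algebraMap S T) =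
      (p.map (algebraMap A A₁)).map (algebraMap A₁ T) := by
    rw [Ideal.map_map, Ideal.map_map]
    exact congrArg (fun φ => Ideal.map φ p) hg1
  rw [hmm]
  constructor
  · rintro ⟨Q, hQ, hdim⟩
    have hq := comap_mem_minimalPrimes (p.map (algebraMap A A₁)) Q hQ
    refine ⟨_, hq, Q, ⟨⟨hQ.1.1, Ideal.map_comap_le⟩, fun Q' hQ' hle => ?_⟩, hdim⟩
    exact hQ.2 ⟨hQ'.1, (Ideal.map_mono hq.1.2).trans hQ'.2⟩ hle
  · rintro ⟨q, hq, Q, hQ, hdim⟩
    exact ⟨Q, mem_minimalPrimes_map _ q hq Q hQ, hdim⟩

end K144.StrictMap
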