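import Groth.Agent.Hensel.K144.Hfp
import Groth.Agent.Hensel.K144.Factor

/-!
Let `B` be a henselization of `(R₀, IR₀)` for a finitely presented `A`-algebra `R₀`, `R` a finitely
presented `A`-algebra, `R → B` an `A`-algebra map inducing a surjection `R → B/IB`, `H` a henselization of
`(R, IR)`.  Then the induced map `H → B` is surjective with finitely generated kernel.
-/

set_option autoImplicit false

universe u

open TensorProduct

namespace K144.Surj

/-- Henselizations and pushouts. -/
theorem isPairHenselization_pushout {R : Type u} [CommRing R] {J : Ideal R} {H R₀ T B : Type u}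
    [CommRing H] [CommRing R₀] [CommRing T] [CommRing B]
    [Algebra R H] [Algebra R R₀] [Algebra R T] [Algebra H T] [Algebra R₀ T] [IsScalarTower R H T]
    [IsScalarTower R R₀ T] [Algebra R₀ B] [Algebra T B] [IsScalarTower R₀ T B]
    (hH : Hens2.IsPairHenselization R J H)
    (hB : Hens2.IsPairHenselization R₀ (J.map (algebraMap R R₀)) B)
    (hT : ∀ (C : Type u) [CommRing C] (f g : T →+* C),
      f.comp (algebraMap H T) = g.comp (algebraMap H T) →
      f.comp (algebraMap R₀ T) = g.comp (algebraMap R₀ T) → f = g) :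
    Hens2.IsPairHenselization T (J.map (algebraMap R T)) B := by
  have e1 : (J.map (algebraMap R T)) = (J.map (algebraMap R R₀)).map (algebraMap R₀ T) := by
    rw [Ideal.map_map, ← IsScalarTower.algebraMap_eq]
  have e2 : (J.map (algebraMap R T)) = (J.map (algebraMap R H)).map (algebraMap H T) := by
    rw [Ideal.map_map, ← IsScalarTower.algebraMap_eq]
  refine ⟨?_, ?_⟩
  · have := hB.1
    rwa [IsScalarTower.algebraMap_eq R₀ T B, ← Ideal.map_map, ← e1] at this
  · intro C _ K f hC hf
    have h1 : (J.map (algebraMap R R₀)).map (f.comp (algebraMap R₀ T)) ≤ K := by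
      rw [← Ideal.map_map, ← e1]; exact hf
    obtain ⟨g, hg, hgu⟩ := hB.2 C K (f.comp (algebraMap R₀ T)) hC h1
    have hg0 : (g.comp (algebraMap T B)).comp (algebraMap R₀ T) = f.comp (algebraMap R₀ T) := by
      rw [RingHom.comp_assoc, ← IsScalarTower.algebraMap_eq, hg]
    refine ⟨g, ?_, fun g' hg' => ?_⟩
    · refine hT C _ _ ?_ hg0
      have h2 : J.map (f.comp (algebraMap R T)) ≤ K := by rw [← Ideal.map_map]; exact hf
      refine (hH.2 C K (f.comp (algebraMap R T)) hC h2).unique ?_ ?_
      · rw [RingHom.comp_assoc, ← IsScalarTower.algebraMap_eq, IsScalarTower.algebraMap_eq R R₀ T,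
          ← RingHom.comp_assoc, hg0, RingHom.comp_assoc]
      · rw [RingHom.comp_assoc, ← IsScalarTower.algebraMap_eq]
    · apply hgu
      rw [IsScalarTower.algebraMap_eq R₀ T B, ← RingHom.comp_assoc, hg']

theorem exists_surjection {A : Type u} [CommRing A] {I : Ideal A} {R₀ : Type u} [CommRing R₀]
    [Algebra A R₀] [Algebra.FinitePresentation A R₀] {B : Type u} [CommRing B] [Algebra R₀ B]
    [Algebra A B] [IsScalarTower A R₀ B]
    (hB : Hens2.IsPairHenselization R₀ (I.map (algebraMap A R₀)) B)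
    {R : Type u} [CommRing R] [Algebra A R] [Algebra.FinitePresentation A R] (φ : R →ₐ[A] B)
    (hφ : ∀ b : B, ∃ r : R, b - φ r ∈ I.map (algebraMap A B))
    {H : Type u} [CommRing H] [Algebra R H] [Algebra A H] [IsScalarTower A R H]
    (hH : Hens2.IsPairHenselization R (I.map (algebraMap A R)) H) :
    ∃ Φ : H →ₐ[A] B, (∀ r, Φ (algebraMap R H r) = φ r) ∧ Function.Surjective Φ ∧
      (RingHom.ker Φ).FG := by
  -- the étale neighbourhood through which `R → B` factors
  let φ' : R₀ ⊗[A] R →ₐ[R₀] B := Algebra.TensorProduct.lift (Algebra.ofId R₀ B) φ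
    (fun _ _ => Commute.all _ _)
  obtain ⟨R₁, _, _, het, hbij, ψ, χ, hχ⟩ := K144.Factor.exists_factor hB φ'
  let _ : Algebra A R₁ := ((algebraMap R₀ R₁).comp (algebraMap A R₀)).toAlgebra
  have st1 : IsScalarTower A R₀ R₁ := IsScalarTower.of_algebraMap_eq fun _ => rfl
  let ψ' : R →ₐ[A] R₁ := (ψ.restrictScalars A).comp Algebra.TensorProduct.includeRight
  let _ : Algebra R R₁ := ψ'.toRingHom.toAlgebra
  have st2 : IsScalarTower A R R₁ := IsScalarTower.of_algebraMap_eq fun a => (ψ'.commutes a).symm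
  let _ : Algebra R₁ B := χ.toRingHom.toAlgebra
  have st3 : IsScalarTower R₀ R₁ B := IsScalarTower.of_algebraMap_eq fun a => (χ.commutes a).symm
  have st4 : IsScalarTower A R₁ B := IsScalarTower.of_algebraMap_eq fun a => by
    rw [IsScalarTower.algebraMap_apply A R₀ R₁, ← IsScalarTower.algebraMap_apply R₀ R₁ B,
      ← IsScalarTower.algebraMap_apply A R₀ B]
  let _ : Algebra R B := φ.toRingHom.toAlgebra
  have st5 : IsScalarTower A R B := IsScalarTower.of_algebraMap_eq fun a => (φ.commutes a).symm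
  have st6 : IsScalarTower R R₁ B := IsScalarTower.of_algebraMap_eq fun r => by
    have h1 : χ (ψ (1 ⊗ₜ r)) = φ' (1 ⊗ₜ r) := congrArg (fun f : R₀ ⊗[A] R →ₐ[R₀] B => f (1 ⊗ₜ r)) hχ
    have h2 : φ' (1 ⊗ₜ r) = φ r := by
      simp [φ', Algebra.TensorProduct.lift_tmul]
    exact (h1.trans h2).symm
  have hfpA : Algebra.FinitePresentation A R₁ :=
    have : Algebra.FinitePresentation R₀ R₁ := het.finitePresentation
    Algebra.FinitePresentation.trans A R₀ R₁
  have hfpR : Algebra.FinitePresentation R R₁ :=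
    Algebra.FinitePresentation.of_restrict_scalars_finitePresentation A R R₁
  have hmapR₁ : (I.map (algebraMap A R₀)).map (algebraMap R₀ R₁) =
      (I.map (algebraMap A R)).map (algebraMap R R₁) := by
    rw [Ideal.map_map, Ideal.map_map, ← IsScalarTower.algebraMap_eq, ← IsScalarTower.algebraMap_eq]
  have hB₁ : Hens2.IsPairHenselization R₁ ((I.map (algebraMap A R)).map (algebraMap R R₁)) B := by
    rw [← hmapR₁]
    exact K144.Nbhd.isPairHenselization_nbhd hbij hB
  -- the map `Φ : H → B`
  have hIB : (I.map (algebraMap A R)).map (algebraMap R B) ≤ I.map (algebraMap A B) := by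
    rw [Ideal.map_map, ← IsScalarTower.algebraMap_eq]
  have hBh : HenselianRing B (I.map (algebraMap A B)) := by
    have := hB.1
    rwa [Ideal.map_map, ← IsScalarTower.algebraMap_eq] at this
  obtain ⟨Φ₀, hΦ₀, -⟩ := hH.2 B (I.map (algebraMap A B)) (algebraMap R B) hBh hIB
  let Φ : H →ₐ[A] B := { Φ₀ with
    commutes' := fun a => by
      change Φ₀ (algebraMap A H a) = algebraMap A B a
      rw [IsScalarTower.algebraMap_apply A R H, IsScalarTower.algebraMap_apply A R B]
      exact congrArg (fun f : R →+* B => f (algebraMap A R a)) hΦ₀ }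
  have hΦ : ∀ r, Φ (algebraMap R H r) = φ r := fun r =>
    congrArg (fun f : R →+* B => f r) hΦ₀
  let _ : Algebra H B := Φ.toRingHom.toAlgebra
  have st7 : IsScalarTower R H B := IsScalarTower.of_algebraMap_eq fun r => (hΦ r).symm
  have st8 : IsScalarTower A H B := IsScalarTower.of_algebraMap_eq fun r => (Φ.commutes r).symm
  -- the algebra `T = H ⊗[R] R₁`
  let μ : H ⊗[R] R₁ →ₐ[H] B := Algebra.TensorProduct.lift (Algebra.ofId H B)
    (IsScalarTower.toAlgHom R R₁ B) (fun _ _ => Commute.all _ _)
  let _ : Algebra (H ⊗[R] R₁) B := μ.toRingHom.toAlgebra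
  have st9 : IsScalarTower H (H ⊗[R] R₁) B :=
    IsScalarTower.of_algebraMap_eq fun h => (μ.commutes h).symm
  let _ : Algebra R₁ (H ⊗[R] R₁) := Algebra.TensorProduct.rightAlgebra
  have st10 : IsScalarTower R₁ (H ⊗[R] R₁) B := IsScalarTower.of_algebraMap_eq fun x => by
    change algebraMap R₁ B x = μ (1 ⊗ₜ x)
    simp [μ, Algebra.TensorProduct.lift_tmul]
  have st11 : IsScalarTower R R₁ (H ⊗[R] R₁) := IsScalarTower.of_algebraMap_eq fun x => by
    change algebraMap R (H ⊗[R] R₁) x = 1 ⊗ₜ algebraMap R R₁ x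
    rw [Algebra.TensorProduct.algebraMap_apply, Algebra.algebraMap_eq_smul_one, TensorProduct.smul_tmul,
      ← Algebra.algebraMap_eq_smul_one]
  have hT : Hens2.IsPairHenselization (H ⊗[R] R₁)
      ((I.map (algebraMap A R)).map (algebraMap R (H ⊗[R] R₁))) B := by
    refine isPairHenselization_pushout (H := H) (R₀ := R₁) hH hB₁ ?_
    intro C _ f g h1 h2
    apply RingHom.ext
    intro z
    induction z with
    | zero => rw [map_zero, map_zero]
    | add x y hx hy => rw [map_add, map_add, hx, hy]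
    | tmul x y =>
      have e1 : (x ⊗ₜ[R] y : H ⊗[R] R₁) = algebraMap H (H ⊗[R] R₁) x * algebraMap R₁ (H ⊗[R] R₁) y := by
        change _ = (x ⊗ₜ[R] (1 : R₁)) * ((1 : H) ⊗ₜ[R] y)
        rw [Algebra.TensorProduct.tmul_mul_tmul, mul_one, one_mul]
      have e2 : f (algebraMap H (H ⊗[R] R₁) x) = g (algebraMap H (H ⊗[R] R₁) x) :=
        congrArg (fun k : H →+* C => k x) h1
      have e3 : f (algebraMap R₁ (H ⊗[R] R₁) y) = g (algebraMap R₁ (H ⊗[R] R₁) y) :=
        congrArg (fun k : R₁ →+* C => k y) h2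
      rw [e1, map_mul, map_mul, e2, e3]
  have hmapT : (I.map (algebraMap A R)).map (algebraMap R (H ⊗[R] R₁)) =
      ((I.map (algebraMap A R)).map (algebraMap R H)).map (algebraMap H (H ⊗[R] R₁)) := by
    rw [Ideal.map_map (algebraMap R H), ← IsScalarTower.algebraMap_eq]
  rw [hmapT] at hT
  have hHh : HenselianRing H ((I.map (algebraMap A R)).map (algebraMap R H)) := hH.1
  have hmapHB : ((I.map (algebraMap A R)).map (algebraMap R H)).map (algebraMap H B) =
      I.map (algebraMap A B) := by
    rw [Ideal.map_map, Ideal.map_map, ← IsScalarTower.algebraMap_eq R H B,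
      ← IsScalarTower.algebraMap_eq]
  have hsurj : Function.Surjective
      (Ideal.quotientMap (((I.map (algebraMap A R)).map (algebraMap R H)).map (algebraMap H B))
        (algebraMap H B) Ideal.le_comap_map) := by
    intro y
    obtain ⟨b, rfl⟩ := Ideal.Quotient.mk_surjective y
    obtain ⟨r, hr⟩ := hφ b
    refine ⟨Ideal.Quotient.mk _ (algebraMap R H r), ?_⟩
    rw [Ideal.quotientMap_mk, eq_comm, Ideal.Quotient.eq, hmapHB]
    have : algebraMap H B (algebraMap R H r) = φ r := hΦ r
    rw [this]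
    exact hr
  have hs : Function.Surjective (algebraMap H B) :=
    K144.Hfp.surjective_of_quotient (R := H ⊗[R] R₁) hT hsurj
  have hfin : Module.Finite H (B ⧸ ((I.map (algebraMap A R)).map (algebraMap R H)).map
      (algebraMap H B)) := by
    refine Module.Finite.of_surjective (Algebra.linearMap H _) fun y => ?_
    obtain ⟨b, rfl⟩ := Ideal.Quotient.mk_surjective y
    obtain ⟨h, rfl⟩ := hs b
    exact ⟨h, rfl⟩
  obtain ⟨-, hfp⟩ := K144.Hfp.finite_and_finitePresentation (R := H ⊗[R] R₁) hT hfin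
  refine ⟨Φ, hΦ, hs, ?_⟩
  have hker := Algebra.FinitePresentation.ker_fG_of_surjective (R := H) (Algebra.ofId H B) hs
  exact hker

end K144.Surj
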